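import Mathlib.Topology.Connected.TotallyDisconnected
import Mathlib.Topology.Algebra.Group.Quotient
import Mathlib.Topology.Algebra.ConstMulAction
import Mathlib.Topology.Compactness.Compact
import Mathlib.Topology.Algebra.OpenSubgroup
import Mathlib.Topology.Connected.Clopen

/-!
Connected components under a quotient map by a compact (profinite) group.

`π : E → C` is continuous, open, closed, surjective, its fibres are the orbits of a compact group
`G` acting by homeomorphisms, and the opens of `E` with open stabiliser form a basis.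
Then connected components of `E` map onto connected components of `C`.
-/

set_option linter.unusedSectionVars false

universe u v w

open Set Topology Pointwise

namespace Groth.Agent.Lib.GeomConn.OrbitQuot

variable {G : Type u} {E : Type v} {C : Type w} [Group G] [TopologicalSpace G] [IsTopologicalGroup G]
  [CompactSpace G] [TopologicalSpace E] [TopologicalSpace C] [MulAction G E] [ContinuousConstSMul G E]

/-- The hypotheses on a map `π : E → C`. -/
structure IsOrbitMap (G : Type u) [Group G] [TopologicalSpace G] [MulAction G E]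
    (π : E → C) : Prop where
  continuous : Continuous π
  isOpenMap : IsOpenMap π
  isClosedMap : IsClosedMap π
  surjective : Function.Surjective π
  apply_smul : ∀ (g : G) (x : E), π (g • x) = π x
  exists_smul : ∀ x y : E, π x = π y → ∃ g : G, g • x = y
  exists_basic : ∀ (x : E) (O : Set E), IsOpen O → x ∈ O → ∃ V : Set E, IsOpen V ∧ x ∈ V ∧ V ⊆ O ∧
    ∃ N : OpenSubgroup G, ∀ g ∈ N, ∀ v ∈ V, g • v ∈ V

namespace IsOrbitMap

variable {π : E → C} (h : IsOrbitMap G π)
include h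

omit [CompactSpace G] [ContinuousConstSMul G E] in
theorem continuous_orbit (x : E) : Continuous fun g : G => g • x := by
  rw [continuous_def]
  intro O hO
  rw [isOpen_iff_mem_nhds]
  intro g hg
  obtain ⟨V, -, hxV, hVO, N, hN⟩ := h.exists_basic (g • x) O hO hg
  refine mem_nhds_iff.mpr ⟨(fun a => a * g⁻¹) ⁻¹' N, fun a ha => ?_,
    N.isOpen.preimage (continuous_mul_const g⁻¹), by simp⟩
  have h2 := hVO (hN _ ha _ hxV)
  simpa [smul_smul] using h2

omit [ContinuousConstSMul G E] in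
theorem isCompact_fiber (c : C) : IsCompact (π ⁻¹' {c}) := by
  obtain ⟨x, rfl⟩ := h.surjective c
  have : π ⁻¹' {π x} = Set.range fun g : G => g • x := by
    ext y
    exact ⟨fun hy => h.exists_smul x y (Set.mem_singleton_iff.mp hy).symm,
      fun ⟨g, hg⟩ => by subst hg; simp [h.apply_smul]⟩
  rw [this]
  exact isCompact_range (h.continuous_orbit x)

omit [ContinuousConstSMul G E] in
/-- If `A` is closed, `A ⊆ O` open, an open subgroup moves the fibre part of `A` into `O`. -/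
theorem exists_openSubgroup_fiber {A O : Set E} (hA : IsClosed A) (hO : IsOpen O) (hAO : A ⊆ O)
    (c : C) : ∃ N : OpenSubgroup G, ∀ g ∈ N, ∀ y ∈ A, π y = c → g • y ∈ O := by
  obtain ⟨x, rfl⟩ := h.surjective c
  have hK : IsCompact {g : G | g • x ∈ A} := (hA.preimage (h.continuous_orbit x)).isCompact
  have : ∀ g : {g : G | g • x ∈ A}, ∃ V : Set E, (g : G) • x ∈ V ∧ V ⊆ O ∧
      ∃ N : OpenSubgroup G, ∀ a ∈ N, ∀ v ∈ V, a • v ∈ V := fun g => by
    obtain ⟨V, -, h1, h2, h3⟩ := h.exists_basic _ O hO (hAO g.2)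
    exact ⟨V, h1, h2, h3⟩
  choose V hxV hVO N hN using this
  obtain ⟨s, hs⟩ := hK.elim_finite_subcover
    (fun g : {g : G | g • x ∈ A} => (fun a => a * (g : G)⁻¹) ⁻¹' (N g : Set G))
    (fun g => (N g).isOpen.preimage (continuous_mul_const _))
    (fun g hg => Set.mem_iUnion.mpr ⟨⟨g, hg⟩, by simp⟩)
  refine ⟨s.inf N, fun a ha y hy hyx => ?_⟩
  obtain ⟨g, rfl⟩ := h.exists_smul x y hyx.symm
  obtain ⟨i, hi, hgi⟩ := Set.mem_iUnion₂.mp (hs hy)
  have hai : a ∈ N i := Finset.inf_le (f := N) hi ha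
  apply hVO i
  have := hN i _ (mul_mem hai hgi) _ (hxV i)
  simpa [smul_smul, mul_assoc] using this

omit [CompactSpace G] [ContinuousConstSMul G E] in
theorem image_eq_univ [ConnectedSpace C] {S : Set E} (hS : IsClopen S) (hne : S.Nonempty) :
    π '' S = univ :=
  IsClopen.eq_univ ⟨h.isClosedMap S hS.1, h.isOpenMap S hS.2⟩ (hne.image π)

/-- A clopen set of `E` has open stabiliser. -/
theorem exists_openSubgroup_clopen [ConnectedSpace C] {U : Set E} (hU : IsClopen U) :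
    ∃ N : OpenSubgroup G, ∀ g ∈ N, ∀ y, g • y ∈ U ↔ y ∈ U := by
  obtain ⟨c⟩ : Nonempty C := inferInstance
  obtain ⟨N, hN⟩ := h.exists_openSubgroup_fiber hU.1 hU.2 subset_rfl c
  refine ⟨N, fun g hg => ?_⟩
  let S : Set E := (U \ (g • ·) ⁻¹' U) ∪ ((g • ·) ⁻¹' U \ U)
  have hgU : IsClopen ((g • ·) ⁻¹' U) := hU.preimage (continuous_const_smul g)
  have hS : IsClopen S := (hU.diff hgU).union (hgU.diff hU)
  have hS0 : S = ∅ := by
    by_contra hne
    obtain ⟨y, hy, hyc⟩ : c ∈ π '' S := by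
      rw [h.image_eq_univ hS (nonempty_iff_ne_empty.mpr hne)]; trivial
    rcases hy with ⟨h1, h2⟩ | ⟨h1, h2⟩
    · exact h2 (hN g hg y h1 hyc)
    · have := hN g⁻¹ (inv_mem hg) (g • y) h1 (by rw [h.apply_smul, hyc])
      exact h2 (by simpa using this)
  intro y
  constructor
  · intro hy
    by_contra hyU
    exact (Set.eq_empty_iff_forall_notMem.mp hS0 y) (Or.inr ⟨hy, hyU⟩)
  · intro hy
    by_contra hyU
    exact (Set.eq_empty_iff_forall_notMem.mp hS0 y) (Or.inl ⟨hy, hyU⟩)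

end IsOrbitMap

variable (t : E)

/-- The intersection of all clopens containing `t`. -/
def quasiComponent : Set E := ⋂ W ∈ {W : Set E | IsClopen W ∧ t ∈ W}, W

omit [MulAction G E] [ContinuousConstSMul G E] in
theorem mem_quasiComponent_iff {y : E} :
    y ∈ quasiComponent t ↔ ∀ W : Set E, IsClopen W → t ∈ W → y ∈ W := by
  simp [quasiComponent]

theorem quasiComponent_eq_of_mem {y : E} (hy : y ∈ quasiComponent t) :
    quasiComponent y = quasiComponent t := by
  rw [mem_quasiComponent_iff] at hy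
  ext z
  rw [mem_quasiComponent_iff, mem_quasiComponent_iff]
  refine ⟨fun hz W hW htW => hz W hW (hy W hW htW), fun hz W hW hyW => ?_⟩
  by_contra hzW
  have htW : t ∈ W := by
    by_contra htW
    exact hy Wᶜ hW.compl htW hyW
  exact hzW (hz W hW htW)

theorem smul_mem_quasiComponent (g : G) {y : E} (hy : y ∈ quasiComponent t) :
    g • y ∈ quasiComponent (g • t) := by
  rw [mem_quasiComponent_iff] at hy ⊢
  exact fun W hW htW => hy _ (hW.preimage (continuous_const_smul g)) htW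

theorem smul_mem_quasiComponent_of_mem {g : G} {q q' : E} (hq : q ∈ quasiComponent t)
    (hgq : g • q ∈ quasiComponent t) (hq' : q' ∈ quasiComponent t) :
    g • q' ∈ quasiComponent t := by
  have h2 := smul_mem_quasiComponent q g ((quasiComponent_eq_of_mem t hq).symm ▸ hq')
  rwa [quasiComponent_eq_of_mem t hgq] at h2

variable {t}

namespace IsOrbitMap

variable {π : E → C} (h : IsOrbitMap G π) [ConnectedSpace C]
include h

theorem quasiComponent_surjOn (c : C) : ∃ q ∈ quasiComponent t, π q = c := by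
  have hne := (h.isCompact_fiber c).inter_iInter_nonempty
    (fun W : {W : Set E | IsClopen W ∧ t ∈ W} => (W : Set E)) (fun W => W.2.1.1) fun s => by
      have hW : IsClopen (⋂ i ∈ s, (i : Set E)) := isClopen_biInter_finset fun i _ => i.2.1
      obtain ⟨y, hy, hyc⟩ : c ∈ π '' (⋂ i ∈ s, (i : Set E)) := by
        rw [h.image_eq_univ hW ⟨t, Set.mem_iInter₂.mpr fun i _ => i.2.2⟩]; trivial
      exact ⟨y, hyc, hy⟩
  obtain ⟨q, hqc, hq⟩ := hne
  exact ⟨q, (mem_quasiComponent_iff t).mpr fun W hW htW =>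
    Set.mem_iInter.mp hq ⟨W, hW, htW⟩, hqc⟩

/-- The smallest `N`-invariant clopen containing `t`. -/
theorem exists_min_invariant (t : E) (N : OpenSubgroup G) :
    ∃ T : Set E, IsClopen T ∧ t ∈ T ∧ (∀ g ∈ N, ∀ y ∈ T, g • y ∈ T) ∧
      ∀ W : Set E, IsClopen W → t ∈ W → (∀ g ∈ N, ∀ y ∈ W, g • y ∈ W) → T ⊆ W := by
  let 𝒲 := {W : Set E | IsClopen W ∧ t ∈ W ∧ ∀ g ∈ N, ∀ y ∈ W, g • y ∈ W}
  have hfin : 𝒲.Finite := by
    have : Finite (G ⧸ (N : Subgroup G)) := Subgroup.quotient_finite_of_isOpen _ N.isOpen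
    refine Set.Finite.of_finite_image (f := fun W =>
      {q : G ⧸ (N : Subgroup G) | (q.out)⁻¹ • t ∈ W}) (Set.toFinite _) ?_
    intro W hW W' hW' heq
    have key : ∀ g : G, g • t ∈ W ↔ g • t ∈ W' := by
      intro g
      obtain ⟨n, hn⟩ := QuotientGroup.mk_out_eq_mul (N : Subgroup G) g⁻¹
      have hinv : ∀ W ∈ 𝒲, (g • t ∈ W ↔ ((QuotientGroup.mk g⁻¹ : G ⧸ (N : Subgroup G)).out)⁻¹ • t ∈ W) := by
        intro W hW
        rw [hn, mul_inv_rev, inv_inv, mul_smul]
        refine ⟨hW.2.2 _ (inv_mem n.2) _, fun hy => ?_⟩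
        have := hW.2.2 _ n.2 _ hy
        simpa using this
      rw [hinv W hW, hinv W' hW']
      exact Set.ext_iff.mp heq _
    have hS : IsClopen ((W \ W') ∪ (W' \ W)) := (hW.1.diff hW'.1).union (hW'.1.diff hW.1)
    have hS0 : (W \ W') ∪ (W' \ W) = ∅ := by
      by_contra hne
      obtain ⟨y, hy, hyt⟩ : π t ∈ π '' ((W \ W') ∪ (W' \ W)) := by
        rw [h.image_eq_univ hS (nonempty_iff_ne_empty.mpr hne)]; trivial
      obtain ⟨g, rfl⟩ := h.exists_smul t y hyt.symm
      rcases hy with ⟨h1, h2⟩ | ⟨h1, h2⟩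
      · exact h2 ((key g).mp h1)
      · exact h2 ((key g).mpr h1)
    rw [Set.union_empty_iff, Set.sdiff_eq_empty, Set.sdiff_eq_empty] at hS0
    exact hS0.1.antisymm hS0.2
  refine ⟨⋂ W ∈ 𝒲, W, hfin.isClopen_biInter fun W hW => hW.1,
    Set.mem_iInter₂.mpr fun W hW => hW.2.1, fun g hg y hy => Set.mem_iInter₂.mpr fun W hW =>
      hW.2.2 g hg y (Set.mem_iInter₂.mp hy W hW), fun W h1 h2 h3 =>
        Set.biInter_subset_of_mem (show W ∈ 𝒲 from ⟨h1, h2, h3⟩)⟩

theorem exists_smul_mem_quasiComponent {N : OpenSubgroup G} {v : E}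
    (hv : ∀ W : Set E, IsClopen W → t ∈ W → (∀ g ∈ N, ∀ y ∈ W, g • y ∈ W) → v ∈ W) :
    ∃ g ∈ N, g • v ∈ quasiComponent t := by
  have hNv : IsCompact ((fun g => g • v) '' (N : Set G)) :=
    N.isClosed.isCompact.image (h.continuous_orbit v)
  have hne := hNv.inter_iInter_nonempty
    (fun W : {W : Set E | IsClopen W ∧ t ∈ W} => (W : Set E)) (fun W => W.2.1.1) fun s => by
      set W := ⋂ i ∈ s, (i : Set E)
      have hW : IsClopen W := isClopen_biInter_finset fun i _ => i.2.1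
      obtain ⟨M, hM⟩ := h.exists_openSubgroup_clopen hW
      let W' : Set E := {y | ∃ g ∈ N, g • y ∈ W}
      have hW'fin : Set.Finite ((fun g => (g • ·) ⁻¹' W) '' (N : Set G)) := by
        have : Finite (G ⧸ (M : Subgroup G)) := Subgroup.quotient_finite_of_isOpen _ M.isOpen
        refine Set.Finite.subset
          (Set.finite_range fun q : G ⧸ (M : Subgroup G) => ((q.out)⁻¹ • ·) ⁻¹' W) ?_
        rintro _ ⟨g, -, rfl⟩
        refine ⟨QuotientGroup.mk g⁻¹, ?_⟩
        obtain ⟨m, hm⟩ := QuotientGroup.mk_out_eq_mul (M : Subgroup G) g⁻¹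
        ext y
        simp only [hm, Set.mem_preimage, mul_inv_rev, inv_inv, mul_smul]
        exact hM _ (inv_mem m.2) _
      have hW' : IsClopen W' := by
        have : W' = ⋃ S ∈ (fun g => (g • ·) ⁻¹' W) '' (N : Set G), S := by
          ext y; simp [W']
        rw [this]
        refine hW'fin.isClopen_biUnion ?_
        rintro _ ⟨g, -, rfl⟩
        exact hW.preimage (continuous_const_smul g)
      obtain ⟨g, hg, hgv⟩ := hv W' hW'
        ⟨1, one_mem N, by rw [one_smul]; exact Set.mem_iInter₂.mpr fun i _ => i.2.2⟩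
        (fun g hg y ⟨a, ha, hay⟩ => ⟨a * g⁻¹, mul_mem ha (inv_mem hg), by simpa [smul_smul] using hay⟩)
      exact ⟨g • v, ⟨g, hg, rfl⟩, hgv⟩
  obtain ⟨_, ⟨g, hg, rfl⟩, hq⟩ := hne
  exact ⟨g, hg, (mem_quasiComponent_iff t).mpr fun W hW htW =>
    Set.mem_iInter.mp hq ⟨W, hW, htW⟩⟩

/-- `π` restricted to a quasi-component is open. -/
theorem isOpen_image_quasiComponent {O : Set E} (hO : IsOpen O) :
    IsOpen (π '' (O ∩ quasiComponent t)) := by
  rw [isOpen_iff_forall_mem_open]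
  rintro _ ⟨q, ⟨hqO, hq⟩, rfl⟩
  obtain ⟨V, hVo, hqV, hVO, N, hN⟩ := h.exists_basic q O hO hqO
  obtain ⟨T, hT, htT, hTN, hTmin⟩ := h.exists_min_invariant t N
  refine ⟨π '' (V ∩ T), ?_, h.isOpenMap _ (hVo.inter hT.2),
    ⟨q, ⟨hqV, (mem_quasiComponent_iff t).mp hq T hT htT⟩, rfl⟩⟩
  rintro _ ⟨v, ⟨hvV, hvT⟩, rfl⟩
  obtain ⟨g, hg, hgv⟩ := h.exists_smul_mem_quasiComponent (t := t) (N := N) (v := v)
    fun W h1 h2 h3 => hTmin W h1 h2 h3 hvT
  exact ⟨g • v, ⟨hVO (hN g hg v hvV), hgv⟩, h.apply_smul g v⟩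

theorem isPreconnected_quasiComponent : IsPreconnected (quasiComponent t) := by
  set Q := quasiComponent t with hQdef
  have hQc : IsClosed Q := isClosed_biInter fun W hW => hW.1.1
  have htQ : t ∈ Q := (mem_quasiComponent_iff t).mpr fun W _ htW => htW
  rw [isPreconnected_closed_iff]
  intro A B hA hB hQAB hQA hQB
  by_contra hne
  rw [Set.not_nonempty_iff_eq_empty] at hne
  wlog htA : t ∈ A generalizing A B
  · refine this B A hB hA (by rwa [Set.union_comm]) hQB hQA (by rwa [Set.inter_comm B A]) ?_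
    exact (hQAB htQ).resolve_left htA
  have hdisj : ∀ y ∈ Q, y ∈ A → y ∉ B := fun y hy h1 h2 =>
    Set.eq_empty_iff_forall_notMem.mp hne y ⟨hy, h1, h2⟩
  -- `A ∩ Q` is saturated for an open subgroup
  obtain ⟨N, hN⟩ := h.exists_openSubgroup_fiber (hA.inter hQc) hB.isOpen_compl
    (fun y hy => hdisj y hy.2 hy.1) (π t)
  have hsat : ∀ g ∈ N, ∀ q ∈ Q, g • q ∈ Q → q ∈ A → g • q ∈ A := by
    intro g hg q hq hgq hqA
    by_contra hgA
    have hQg : ∀ y ∈ Q, g • y ∈ Q := fun y hy => smul_mem_quasiComponent_of_mem t hq hgq hy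
    let SA : Set E := Q ∩ (A ∩ (g • ·) ⁻¹' B)
    let SB : Set E := Q ∩ (B ∩ (g • ·) ⁻¹' A)
    let S := SA ∪ SB
    have hSc : IsClosed S := (hQc.inter (hA.inter (hB.preimage (continuous_const_smul g)))).union
      (hQc.inter (hB.inter (hA.preimage (continuous_const_smul g))))
    have hSo : π '' S = π '' (((Bᶜ ∩ (g • ·) ⁻¹' Aᶜ) ∪ (Aᶜ ∩ (g • ·) ⁻¹' Bᶜ)) ∩ Q) := by
      congr 1
      ext y
      constructor
      · rintro (⟨hy, h1, h2⟩ | ⟨hy, h1, h2⟩)
        · exact ⟨Or.inl ⟨hdisj y hy h1, fun h3 => hdisj _ (hQg y hy) h3 h2⟩, hy⟩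
        · exact ⟨Or.inr ⟨fun h3 => hdisj y hy h3 h1, hdisj _ (hQg y hy) h2⟩, hy⟩
      · rintro ⟨⟨h1, h2⟩ | ⟨h1, h2⟩, hy⟩
        · exact Or.inl ⟨hy, (hQAB hy).resolve_right h1, (hQAB (hQg y hy)).resolve_left h2⟩
        · exact Or.inr ⟨hy, (hQAB hy).resolve_left h1, (hQAB (hQg y hy)).resolve_right h2⟩
    have himg : IsClopen (π '' S) := ⟨h.isClosedMap _ hSc, by
      rw [hSo]
      exact h.isOpen_image_quasiComponent
        ((hB.isOpen_compl.inter (hA.isOpen_compl.preimage (continuous_const_smul g))).union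
          (hA.isOpen_compl.inter (hB.isOpen_compl.preimage (continuous_const_smul g))))⟩
    have hSne : S.Nonempty :=
      ⟨q, Or.inl ⟨hq, hqA, (hQAB (hQg q hq)).resolve_left hgA⟩⟩
    obtain ⟨y, hy, hyt⟩ : π t ∈ π '' S := by rw [himg.eq_univ (hSne.image π)]; trivial
    rcases hy with ⟨hy, h1, h2⟩ | ⟨hy, h1, h2⟩
    · exact hN g hg y ⟨h1, hy⟩ hyt h2
    · have := hN g⁻¹ (inv_mem hg) (g • y) ⟨h2, hQg y hy⟩ (by rw [h.apply_smul, hyt])
      exact this (by simpa using h1)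
  obtain ⟨T, hT, htT, hTN, hTmin⟩ := h.exists_min_invariant t N
  have hmeet : ∀ v ∈ T, ∃ g ∈ N, g • v ∈ Q := fun v hv =>
    h.exists_smul_mem_quasiComponent fun W h1 h2 h3 => hTmin W h1 h2 h3 hv
  have hopen : ∀ A' B' : Set E, IsClosed B' → (∀ y ∈ Q, y ∈ A' → y ∉ B') → Q ⊆ A' ∪ B' →
      IsOpen {v | ∃ g ∈ N, g • v ∈ Q ∩ A'} := by
    intro A' B' hB' hd hAB'
    rw [isOpen_iff_forall_mem_open]
    rintro v ⟨g, hg, hgQ, hgA⟩
    obtain ⟨V, hVo, hgV, hVB, M, hM⟩ := h.exists_basic (g • v) B'ᶜ hB'.isOpen_compl (hd _ hgQ hgA)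
    obtain ⟨T', hT', htT', -, hTmin'⟩ := h.exists_min_invariant t (N ⊓ M)
    refine ⟨(g • ·) ⁻¹' (V ∩ T'), ?_, (hVo.inter hT'.2).preimage (continuous_const_smul g),
      hgV, (mem_quasiComponent_iff t).mp hgQ T' hT' htT'⟩
    rintro w ⟨hwV, hwT⟩
    obtain ⟨a, ha, haQ⟩ := h.exists_smul_mem_quasiComponent (t := t) (N := N ⊓ M) (v := g • w)
      fun W h1 h2 h3 => hTmin' W h1 h2 h3 hwT
    refine ⟨a * g, mul_mem ha.1 hg, ?_⟩
    rw [mul_smul]
    exact ⟨haQ, (hAB' haQ).resolve_right (hVB (hM a ha.2 _ hwV))⟩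
  let NA : Set E := {v | ∃ g ∈ N, g • v ∈ Q ∩ A}
  let NB : Set E := {v | ∃ g ∈ N, g • v ∈ Q ∩ B}
  have hNA : NA = T ∩ NBᶜ := by
    ext v
    constructor
    · rintro ⟨g, hg, hgQ, hgA⟩
      refine ⟨?_, ?_⟩
      · have := hTN g⁻¹ (inv_mem hg) (g • v) ((mem_quasiComponent_iff t).mp hgQ T hT htT)
        simpa using this
      · rintro ⟨a, ha, haQ, haB⟩
        have e : (a * g⁻¹) • g • v = a • v := by simp [smul_smul]
        have := hsat (a * g⁻¹) (mul_mem ha (inv_mem hg)) (g • v) hgQ (by rwa [e]) hgA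
        rw [e] at this
        exact hdisj _ haQ this haB
    · rintro ⟨hvT, hvB⟩
      obtain ⟨g, hg, hgQ⟩ := hmeet v hvT
      exact ⟨g, hg, hgQ, (hQAB hgQ).resolve_right fun hb => hvB ⟨g, hg, hgQ, hb⟩⟩
  have hNAc : IsClopen NA := by
    refine ⟨?_, hopen A B hB hdisj hQAB⟩
    rw [hNA]
    exact hT.1.inter (hopen B A hA (fun y hy h1 h2 => hdisj y hy h2 h1)
      (by rwa [Set.union_comm])).isClosed_compl
  have hTA : T ⊆ NA := hTmin NA hNAc ⟨1, one_mem N, by rw [one_smul]; exact ⟨htQ, htA⟩⟩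
    fun g hg y ⟨a, ha, hay⟩ => ⟨a * g⁻¹, mul_mem ha (inv_mem hg), by simpa [smul_smul] using hay⟩
  obtain ⟨b, hbQ, hbB⟩ := hQB
  have hb2 : b ∈ T ∩ NBᶜ := hNA ▸ hTA ((mem_quasiComponent_iff t).mp hbQ T hT htT)
  exact hb2.2 ⟨1, one_mem N, by rw [one_smul]; exact ⟨hbQ, hbB⟩⟩

theorem quasiComponent_eq_connectedComponent : quasiComponent t = connectedComponent t := by
  refine (h.isPreconnected_quasiComponent.subset_connectedComponent
    ((mem_quasiComponent_iff t).mpr fun W _ htW => htW)).antisymm fun y hy => ?_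
  exact (mem_quasiComponent_iff t).mpr fun W hW htW => hW.connectedComponent_subset htW hy

theorem surjOn_connectedComponent (c : C) : ∃ q ∈ connectedComponent t, π q = c :=
  h.quasiComponent_eq_connectedComponent ▸ h.quasiComponent_surjOn c

end IsOrbitMap

end Groth.Agent.Lib.GeomConn.OrbitQuot
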