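import Groth.Prelude.Def_Curv2
import Groth.Agent.Lib.GeomConn.OrbitQuot
import Mathlib.AlgebraicGeometry.Morphisms.UniversallyOpen
import Mathlib.AlgebraicGeometry.Morphisms.UniversallyClosed
import Mathlib.AlgebraicGeometry.Morphisms.Integral
import Mathlib.AlgebraicGeometry.PullbackCarrier
import Mathlib.FieldTheory.Galois.Profinite
import Mathlib.FieldTheory.KrullTopology
import Mathlib.FieldTheory.Normal.Defs

/-!
The Galois group acts on the base change `X_L`, with orbits the fibres of `X_L → X`.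
-/

set_option linter.style.haveILetI false

universe u

open CategoryTheory CategoryTheory.Limits AlgebraicGeometry TensorProduct
open Groth.Agent.Lib.GeomConn.OrbitQuot

namespace Groth.Agent.Lib.GeomConn.Galois

variable (k : Type u) [Field k] (X : Scheme.{u}) [X.Over (Spec (CommRingCat.of k))]

theorem isIntegralHom_bcFst (K : Type u) [Field K] [Algebra k K] [Algebra.IsAlgebraic k K] :
    IsIntegralHom (Curv2.bcFst k X K) := by
  have : IsIntegralHom (Spec.map (CommRingCat.ofHom (algebraMap k K))) :=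
    IsIntegralHom.SpecMap_iff.mpr (algebraMap_isIntegral_iff.mpr inferInstance)
  infer_instance

theorem isOpenMap_bcFst (K : Type u) [Field K] [Algebra k K] :
    IsOpenMap (Curv2.bcFst k X K) := (Curv2.bcFst k X K).isOpenMap

instance surjective_bcFst (K : Type u) [Field K] [Algebra k K] :
    Surjective (Curv2.bcFst k X K) := by
  haveI : Surjective (Spec.map (CommRingCat.ofHom (algebraMap k K))) :=
    ⟨fun x => ⟨(default : PrimeSpectrum K), @Subsingleton.elim (PrimeSpectrum k) _ _ _⟩⟩
  infer_instance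

variable (K : Type u) [Field K] [Algebra k K]

@[reassoc (attr := simp)]
theorem galAct_fst (σ : K ≃ₐ[k] K) :
    Curv2.galAct k X K σ ≫ Curv2.bcFst k X K = Curv2.bcFst k X K :=
  (pullback.lift_fst _ _ _).trans (Category.comp_id _)

@[reassoc (attr := simp)]
theorem galAct_snd (σ : K ≃ₐ[k] K) :
    Curv2.galAct k X K σ ≫ Curv2.bcSnd k X K =
      Curv2.bcSnd k X K ≫ Spec.map (CommRingCat.ofHom (σ : K →ₐ[k] K).toRingHom) :=
  pullback.lift_snd _ _ _

theorem galAct_comp (σ τ : K ≃ₐ[k] K) :
    Curv2.galAct k X K σ ≫ Curv2.galAct k X K τ = Curv2.galAct k X K (σ * τ) := by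
  refine pullback.hom_ext (by simp) ?_
  rw [Category.assoc, galAct_snd, galAct_snd_assoc, galAct_snd, ← Spec.map_comp]
  rfl

theorem galAct_one : Curv2.galAct k X K 1 = 𝟙 _ := by
  refine pullback.hom_ext (by simp) ?_
  rw [galAct_snd, Category.id_comp]
  change _ ≫ Spec.map (𝟙 _) = _
  rw [Spec.map_id, Category.comp_id]

/-- The Galois action on points of `X_K`. -/
noncomputable instance mulAction : MulAction (K ≃ₐ[k] K) (Curv2.bc k X K) where
  smul g x := Curv2.galAct k X K g⁻¹ x
  one_smul x := by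
    change Curv2.galAct k X K 1⁻¹ x = x
    rw [inv_one, galAct_one]
    rfl
  mul_smul g h x := by
    change Curv2.galAct k X K (g * h)⁻¹ x = Curv2.galAct k X K g⁻¹ (Curv2.galAct k X K h⁻¹ x)
    rw [← Scheme.Hom.comp_apply, galAct_comp, mul_inv_rev]

theorem smul_def (g : K ≃ₐ[k] K) (x : Curv2.bc k X K) :
    g • x = Curv2.galAct k X K g⁻¹ x := rfl

instance continuousConstSMul : ContinuousConstSMul (K ≃ₐ[k] K) (Curv2.bc k X K) :=
  ⟨fun g => (Curv2.galAct k X K g⁻¹).continuous⟩

@[simp]
theorem bcFst_galAct_apply (σ : K ≃ₐ[k] K) (x : Curv2.bc k X K) :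
    Curv2.bcFst k X K (Curv2.galAct k X K σ x) = Curv2.bcFst k X K x := by
  rw [← Scheme.Hom.comp_apply, galAct_fst]

/-- For a normal extension the automorphism group is transitive on the fibres of `X_K → X`. -/
theorem exists_galAct_eq [Normal k K] (x y : Curv2.bc k X K)
    (h : Curv2.bcFst k X K x = Curv2.bcFst k X K y) :
    ∃ σ : K ≃ₐ[k] K, Curv2.galAct k X K σ x = y := by
  obtain ⟨z, rfl, rfl⟩ :=
    Scheme.Pullback.exists_preimage_pullback (f := Curv2.bcFst k X K) (g := Curv2.bcFst k X K) x y h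
  let Q := pullback (Curv2.bcFst k X K) (Curv2.bcFst k X K)
  let κ : Type u := ↑(Q.residueField z)
  let p := Q.fromSpecResidueField z ≫ pullback.fst (Curv2.bcFst k X K) (Curv2.bcFst k X K)
  let q := Q.fromSpecResidueField z ≫ pullback.snd (Curv2.bcFst k X K) (Curv2.bcFst k X K)
  let a : K →+* κ := (Spec.preimage (p ≫ Curv2.bcSnd k X K)).hom
  let b : K →+* κ := (Spec.preimage (q ≫ Curv2.bcSnd k X K)).hom
  have hw : p ≫ Curv2.bcFst k X K = q ≫ Curv2.bcFst k X K := by
    simp [p, q, pullback.condition]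
  have ha : Spec.map (CommRingCat.ofHom a) = p ≫ Curv2.bcSnd k X K := Spec.map_preimage _
  have hb : Spec.map (CommRingCat.ofHom b) = q ≫ Curv2.bcSnd k X K := Spec.map_preimage _
  have hab : ∀ c : k, b (algebraMap k K c) = a (algebraMap k K c) := by
    have : Spec.map (CommRingCat.ofHom (b.comp (algebraMap k K))) =
        Spec.map (CommRingCat.ofHom (a.comp (algebraMap k K))) := by
      rw [CommRingCat.ofHom_comp, CommRingCat.ofHom_comp, Spec.map_comp, Spec.map_comp, ha, hb]
      have h1 : (q ≫ Curv2.bcFst k X K) ≫ (X ↘ Spec (CommRingCat.of k)) =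
          (p ≫ Curv2.bcFst k X K) ≫ (X ↘ Spec (CommRingCat.of k)) := by rw [hw]
      simp only [Category.assoc] at h1 ⊢
      rw [← pullback.condition]
      exact h1
    intro c
    exact congr(($(Spec.map_injective this)).hom c)
  letI : Algebra k κ := (a.comp (algebraMap k K)).toAlgebra
  letI : Algebra K κ := a.toAlgebra
  haveI : IsScalarTower k K κ := .of_algebraMap_eq fun _ => rfl
  let b' : K →ₐ[k] κ := { b with commutes' := hab }
  let f : K →ₐ[k] K := AlgHom.restrictNormal b' K
  have hf : ∀ c, a (f c) = b c := fun c => AlgHom.restrictNormal_commutes b' K c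
  refine ⟨AlgEquiv.ofBijective f (AlgHom.normal_bijective k K K f), ?_⟩
  have hq : p ≫ Curv2.galAct k X K (AlgEquiv.ofBijective f (AlgHom.normal_bijective k K K f)) = q := by
    refine pullback.hom_ext ?_ ?_
    · rw [Category.assoc, galAct_fst, hw]
    · rw [Category.assoc, galAct_snd, ← Category.assoc, ← ha, ← hb, ← Spec.map_comp]
      congr 1
      ext c
      exact hf c
  let pt : Spec (Q.residueField z) := IsLocalRing.closedPoint (Q.residueField z)
  have h2 := congr($hq pt)
  change Curv2.galAct k X K _ (pullback.fst (Curv2.bcFst k X K) (Curv2.bcFst k X K)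
    (Q.fromSpecResidueField z pt)) = pullback.snd (Curv2.bcFst k X K) (Curv2.bcFst k X K)
    (Q.fromSpecResidueField z pt) at h2
  rwa [Scheme.fromSpecResidueField_apply] at h2

/-- The opens stabilised by an open subgroup form a basis of `X_K`, for algebraic `K/k`. -/
theorem exists_basic [Algebra.IsAlgebraic k K] (x : Curv2.bc k X K) (O : Set (Curv2.bc k X K))
    (hO : IsOpen O) (hx : x ∈ O) :
    ∃ V : Set (Curv2.bc k X K), IsOpen V ∧ x ∈ V ∧ V ⊆ O ∧
      ∃ N : OpenSubgroup (K ≃ₐ[k] K), ∀ g ∈ N, ∀ v ∈ V, g • v ∈ V := by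
  obtain ⟨U, hU, hxU, -⟩ := X.isBasis_affineOpens.exists_subset_of_mem_open
    (Set.mem_univ (Curv2.bcFst k X K x)) isOpen_univ
  obtain ⟨U, (hU' : IsAffineOpen U), rfl⟩ := hU
  let A : CommRingCat.{u} := Γ(X, U)
  let i : Spec A ⟶ X := hU'.fromSpec
  let φ := Spec.preimage (i ≫ (X ↘ Spec (CommRingCat.of k)))
  letI : Algebra k A := φ.hom.toAlgebra
  have hi : Spec.map (CommRingCat.ofHom (algebraMap k A)) = i ≫ (X ↘ Spec (CommRingCat.of k)) :=
    Spec.map_preimage (i ≫ (X ↘ Spec (CommRingCat.of k)))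
  let ψ : Spec (CommRingCat.of (A ⊗[k] K)) ⟶ Curv2.bc k X K :=
    (pullbackSpecIso k A K).inv ≫
      pullback.map _ _ _ _ i (𝟙 _) (𝟙 _) (by rw [Category.comp_id, hi]) (by simp)
  have hψrange : Set.range ψ = Curv2.bcFst k X K ⁻¹' Set.range i := by
    simp only [ψ, Scheme.Hom.comp_base, TopCat.coe_comp, Set.range_comp]
    rw [Set.range_eq_univ.mpr (show Function.Surjective (pullbackSpecIso k A K).inv from
      (pullbackSpecIso k A K).inv.homeomorph.surjective), Set.image_univ, Scheme.Pullback.range_map]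
    simp
  obtain ⟨w, rfl⟩ : x ∈ Set.range ψ := by
    rw [hψrange]
    exact (hU'.range_fromSpec).symm ▸ hxU
  obtain ⟨_, ⟨f, rfl⟩, hwf, hfO⟩ := PrimeSpectrum.isTopologicalBasis_basic_opens.exists_subset_of_mem_open
    (show w ∈ ψ ⁻¹' O from hx) (hO.preimage ψ.continuous)
  obtain ⟨s, hs⟩ := TensorProduct.exists_finset f
  classical
  let E : IntermediateField k K := IntermediateField.adjoin k (s.image Prod.snd : Set K)
  have : FiniteDimensional k E :=
    IntermediateField.finiteDimensional_adjoin fun c _ => Algebra.IsIntegral.isIntegral c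
  let D : Set (Spec (CommRingCat.of (A ⊗[k] K))) :=
    {v : PrimeSpectrum (A ⊗[k] K) | f ∉ v.asIdeal}
  refine ⟨ψ '' D, ψ.isOpenEmbedding.isOpenMap _ (PrimeSpectrum.basicOpen f).isOpen,
    ⟨w, hwf, rfl⟩, Set.image_subset_iff.mpr hfO,
    ⟨E.fixingSubgroup, E.fixingSubgroup_isOpen⟩, ?_⟩
  rintro g hg _ ⟨v, hv, rfl⟩
  let μ : A ⊗[k] K →ₐ[k] A ⊗[k] K :=
    Algebra.TensorProduct.map (AlgHom.id k A) (g⁻¹ : K ≃ₐ[k] K).toAlgHom
  have hψ1 : ψ ≫ Curv2.bcFst k X K = Spec.map (CommRingCat.ofHom
      (Algebra.TensorProduct.includeLeftRingHom : A →+* A ⊗[k] K)) ≫ i := by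
    rw [← pullbackSpecIso_inv_fst k A K, Category.assoc, Category.assoc]
    congr 1
    exact pullback.lift_fst _ _ _
  have hψ2 : ψ ≫ Curv2.bcSnd k X K = Spec.map (CommRingCat.ofHom
      (Algebra.TensorProduct.includeRight (R := k) (A := A) (B := K)).toRingHom) := by
    refine Eq.trans ?_ (pullbackSpecIso_inv_snd k A K)
    rw [Category.assoc]
    congr 1
    exact (pullback.lift_snd _ _ _).trans (Category.comp_id _)
  clear_value ψ
  have hμ : Spec.map (CommRingCat.ofHom μ.toRingHom) ≫ ψ = ψ ≫ Curv2.galAct k X K g⁻¹ := by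
    apply pullback.hom_ext
    · calc (Spec.map (CommRingCat.ofHom μ.toRingHom) ≫ ψ) ≫ Curv2.bcFst k X K
          = Spec.map (CommRingCat.ofHom μ.toRingHom) ≫ Spec.map (CommRingCat.ofHom
              (Algebra.TensorProduct.includeLeftRingHom : A →+* A ⊗[k] K)) ≫ i := by
            rw [Category.assoc, hψ1]
        _ = ψ ≫ Curv2.bcFst k X K := by
            rw [hψ1, ← Category.assoc, ← Spec.map_comp]
            congr 2
            ext c
            simp [μ]
        _ = (ψ ≫ Curv2.galAct k X K g⁻¹) ≫ Curv2.bcFst k X K := by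
            rw [Category.assoc, galAct_fst]
    · calc (Spec.map (CommRingCat.ofHom μ.toRingHom) ≫ ψ) ≫ Curv2.bcSnd k X K
          = Spec.map (CommRingCat.ofHom μ.toRingHom) ≫ Spec.map (CommRingCat.ofHom
              (Algebra.TensorProduct.includeRight (R := k) (A := A) (B := K)).toRingHom) := by
            rw [Category.assoc, hψ2]
        _ = (ψ ≫ Curv2.bcSnd k X K) ≫ Spec.map (CommRingCat.ofHom
              ((g⁻¹ : K ≃ₐ[k] K) : K →ₐ[k] K).toRingHom) := by
            rw [hψ2, ← Spec.map_comp, ← Spec.map_comp]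
            congr 1
        _ = (ψ ≫ Curv2.galAct k X K g⁻¹) ≫ Curv2.bcSnd k X K := by
            rw [Category.assoc, Category.assoc, galAct_snd]
  rw [smul_def, ← Scheme.Hom.comp_apply, ← hμ, Scheme.Hom.comp_apply]
  refine ⟨_, ?_, rfl⟩
  have hfix : μ f = f := by
    rw [hs, map_sum]
    refine Finset.sum_congr rfl fun p hp => ?_
    have hp2 : p.2 ∈ E := IntermediateField.subset_adjoin _ _ (by
      simpa using ⟨p.1, hp⟩)
    have := (IntermediateField.mem_fixingSubgroup_iff E g⁻¹).mp (inv_mem hg) p.2 hp2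
    simp [μ, this]
  change μ f ∉ v.asIdeal
  rwa [hfix]

theorem isOrbitMap [IsGalois k K] :
    IsOrbitMap (K ≃ₐ[k] K) (Curv2.bcFst k X K : Curv2.bc k X K → X) where
  continuous := (Curv2.bcFst k X K).continuous
  isOpenMap := isOpenMap_bcFst k X K
  isClosedMap := by
    haveI := isIntegralHom_bcFst k X K
    exact (Curv2.bcFst k X K).isClosedMap
  surjective := (Curv2.bcFst k X K).surjective
  apply_smul g x := bcFst_galAct_apply k X K g⁻¹ x
  exists_smul x y h := by
    obtain ⟨σ, hσ⟩ := exists_galAct_eq k X K x y h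
    exact ⟨σ⁻¹, by rw [smul_def, inv_inv, hσ]⟩
  exists_basic := exists_basic k X K

end Groth.Agent.Lib.GeomConn.Galois
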