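import Groth.Agent.Lib.GeomConn.SepClosed
import Groth.Agent.Lib.GeomConn.Galois
import Mathlib.AlgebraicGeometry.Morphisms.Flat
import Mathlib.Topology.Sober
import Mathlib.Topology.JacobsonSpace

/-!
Connected and irreducible components of base changes along field extensions.
-/

set_option linter.style.haveILetI false

universe u

open CategoryTheory CategoryTheory.Limits AlgebraicGeometry Topology
open Groth.Agent.Lib.GeomConn.OrbitQuot Groth.Agent.Lib.GeomConn.Galois

namespace Groth.Agent.Lib.GeomConn.Components

variable (k : Type u) [Field k] (X : Scheme.{u}) [X.Over (Spec (CommRingCat.of k))]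

section SepClosedBase

variable [IsSepClosed k] (K : Type u) [Field K] [Algebra k K]

theorem geometricallyIrreducible_bcFst : GeometricallyIrreducible (Curv2.bcFst k X K) := by
  have := SepClosed.geometricallyIrreducible_specMap k K
  infer_instance

theorem geometricallyConnected_bcFst : GeometricallyConnected (Curv2.bcFst k X K) := by
  have := SepClosed.geometricallyConnected_specMap k K
  infer_instance

theorem preimage_connectedComponent (y : Curv2.bc k X K) :
    Curv2.bcFst k X K ⁻¹' connectedComponent (Curv2.bcFst k X K y) = connectedComponent y := by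
  have := geometricallyConnected_bcFst k X K
  refine subset_antisymm ?_ ?_
  · exact ((Curv2.bcFst k X K).isConnected_preimage (isOpenMap_bcFst k X K) isConnected_connectedComponent
      isClosed_connectedComponent).isPreconnected.subset_connectedComponent mem_connectedComponent
  · exact Set.image_subset_iff.mp ((Curv2.bcFst k X K).continuous.image_connectedComponent_subset y)

end SepClosedBase

/-- For a Galois extension, connected components of `X_L` surject onto those of `X`. -/
theorem surjOn_connectedComponent_galois (L : Type u) [Field L] [Algebra k L] [IsGalois k L]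
    (t : Curv2.bc k X L) (c : X) (hc : c ∈ connectedComponent (Curv2.bcFst k X L t)) :
    ∃ q ∈ connectedComponent t, Curv2.bcFst k X L q = c := by
  let π : Curv2.bc k X L → X := Curv2.bcFst k X L
  let C : Set X := connectedComponent (π t)
  let E : Set (Curv2.bc k X L) := π ⁻¹' C
  have hπ := isOrbitMap k X L
  have hmem : ∀ (g : L ≃ₐ[k] L) (x : Curv2.bc k X L), x ∈ E → g • x ∈ E := by
    intro g x hx
    change π (g • x) ∈ C
    exact Eq.subst (motive := fun c => c ∈ C) (hπ.apply_smul g x).symm hx
  letI : MulAction (L ≃ₐ[k] L) E :=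
    { smul := fun g x => ⟨g • x.1, hmem g x.1 x.2⟩
      one_smul := fun x => Subtype.ext (one_smul _ x.1)
      mul_smul := fun g h x => Subtype.ext (mul_smul g h x.1) }
  haveI : ContinuousConstSMul (L ≃ₐ[k] L) E :=
    ⟨fun g => ((continuous_const_smul g).comp continuous_subtype_val).subtype_mk
      fun x => hmem g x.1 x.2⟩
  haveI : ConnectedSpace C := isConnected_iff_connectedSpace.mp isConnected_connectedComponent
  have hE : IsOrbitMap (L ≃ₐ[k] L) (C.restrictPreimage π) :=
    { continuous := hπ.continuous.restrictPreimage
      isOpenMap := hπ.isOpenMap.restrictPreimage C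
      isClosedMap := hπ.isClosedMap.restrictPreimage C
      surjective := hπ.surjective.restrictPreimage C
      apply_smul := fun g x => Subtype.ext (hπ.apply_smul g x.1)
      exists_smul := fun x y h => by
        obtain ⟨g, hg⟩ := hπ.exists_smul x.1 y.1 (congrArg Subtype.val h)
        exact ⟨g, Subtype.ext hg⟩
      exists_basic := fun x O hO hx => by
        obtain ⟨O', hO', rfl⟩ := isOpen_induced_iff.mp hO
        obtain ⟨V, hV, hxV, hVO, N, hN⟩ := hπ.exists_basic x.1 O' hO' hx
        exact ⟨Subtype.val ⁻¹' V, hV.preimage continuous_subtype_val, hxV,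
          Set.preimage_mono hVO, N, fun g hg v hv => hN g hg v.1 hv⟩ }
  obtain ⟨q, hq, hqc⟩ :=
    hE.surjOn_connectedComponent (t := ⟨t, mem_connectedComponent⟩) ⟨c, hc⟩
  exact ⟨q.1, continuous_subtype_val.image_connectedComponent_subset _ ⟨q, hq, rfl⟩,
    congrArg Subtype.val hqc⟩

/-- The canonical map `X_K ⟶ X_L` for a tower `k → L → K`. -/
noncomputable def bcMap (L K : Type u) [Field L] [Field K] [Algebra k L] [Algebra k K] [Algebra L K]
    [IsScalarTower k L K] : Curv2.bc k X K ⟶ Curv2.bc k X L :=
  pullback.lift (Curv2.bcFst k X K)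
    (Curv2.bcSnd k X K ≫ Spec.map (CommRingCat.ofHom (algebraMap L K))) (by
      rw [Category.assoc, ← Spec.map_comp, ← CommRingCat.ofHom_comp,
        ← IsScalarTower.algebraMap_eq k L K, pullback.condition])

@[reassoc (attr := simp)]
theorem bcMap_fst (L K : Type u) [Field L] [Field K] [Algebra k L] [Algebra k K] [Algebra L K]
    [IsScalarTower k L K] : bcMap k X L K ≫ Curv2.bcFst k X L = Curv2.bcFst k X K :=
  pullback.lift_fst _ _ _

@[reassoc (attr := simp)]
theorem bcMap_snd (L K : Type u) [Field L] [Field K] [Algebra k L] [Algebra k K] [Algebra L K]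
    [IsScalarTower k L K] : bcMap k X L K ≫ Curv2.bcSnd k X L =
      Curv2.bcSnd k X K ≫ Spec.map (CommRingCat.ofHom (algebraMap L K)) :=
  pullback.lift_snd _ _ _

theorem bcMap_fst_apply (L K : Type u) [Field L] [Field K] [Algebra k L] [Algebra k K] [Algebra L K]
    [IsScalarTower k L K] (x : Curv2.bc k X K) :
    Curv2.bcFst k X L (bcMap k X L K x) = Curv2.bcFst k X K x := by
  rw [← Scheme.Hom.comp_apply, bcMap_fst]

theorem isPullback_bcMap (L K : Type u) [Field L] [Field K] [Algebra k L] [Algebra k K] [Algebra L K]
    [IsScalarTower k L K] :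
    IsPullback (bcMap k X L K) (Curv2.bcSnd k X K) (Curv2.bcSnd k X L)
      (Spec.map (CommRingCat.ofHom (algebraMap L K))) := by
  refine IsPullback.of_right ?_ (bcMap_snd k X L K) (IsPullback.of_hasPullback _ _)
  rw [bcMap_fst, ← Spec.map_comp, ← CommRingCat.ofHom_comp, ← IsScalarTower.algebraMap_eq k L K]
  exact IsPullback.of_hasPullback _ _

theorem bcMap_surjective (L K : Type u) [Field L] [Field K] [Algebra k L] [Algebra k K] [Algebra L K]
    [IsScalarTower k L K] : Function.Surjective (bcMap k X L K) := by
  haveI : Surjective (Spec.map (CommRingCat.ofHom (algebraMap L K))) :=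
    ⟨fun x => ⟨(default : PrimeSpectrum K), @Subsingleton.elim (PrimeSpectrum L) _ _ _⟩⟩
  exact (MorphismProperty.of_isPullback (isPullback_bcMap k X L K).flip ‹Surjective _› :
    Surjective (bcMap k X L K)).surj

theorem bcMap_geometricallyIrreducible (L K : Type u) [Field L] [Field K] [Algebra k L] [Algebra k K]
    [Algebra L K] [IsScalarTower k L K] [IsSepClosed L] :
    GeometricallyIrreducible (bcMap k X L K) :=
  MorphismProperty.of_isPullback (isPullback_bcMap k X L K).flip
    (SepClosed.geometricallyIrreducible_specMap L K)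

theorem bcMap_geometricallyConnected (L K : Type u) [Field L] [Field K] [Algebra k L] [Algebra k K]
    [Algebra L K] [IsScalarTower k L K] [IsSepClosed L] :
    GeometricallyConnected (bcMap k X L K) :=
  MorphismProperty.of_isPullback (isPullback_bcMap k X L K).flip
    (SepClosed.geometricallyConnected_specMap L K)

theorem bcMap_isOpenMap (L K : Type u) [Field L] [Field K] [Algebra k L] [Algebra k K] [Algebra L K]
    [IsScalarTower k L K] : IsOpenMap (bcMap k X L K) := by
  have : UniversallyOpen (bcMap k X L K) :=
    MorphismProperty.of_isPullback (isPullback_bcMap k X L K).flip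
      (inferInstance : UniversallyOpen (Spec.map (CommRingCat.ofHom (algebraMap L K))))
  exact (bcMap k X L K).isOpenMap

/-- Connected components of `X_K` surject onto those of `X`, for every field extension. -/
theorem image_connectedComponent (K : Type u) [Field K] [Algebra k K] (x' : Curv2.bc k X K) :
    Curv2.bcFst k X K '' connectedComponent x' = connectedComponent (Curv2.bcFst k X K x') := by
  refine subset_antisymm ((Curv2.bcFst k X K).continuous.image_connectedComponent_subset x') ?_
  intro c hc
  let L := SeparableClosure k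
  let Ω := AlgebraicClosure K
  let iL : L →ₐ[k] Ω := IsSepClosed.lift
  letI := iL.toRingHom.toAlgebra
  haveI : IsScalarTower k L Ω := .of_algebraMap_eq fun a => (iL.commutes a).symm
  obtain ⟨x, rfl⟩ := bcMap_surjective k X K Ω x'
  rw [bcMap_fst_apply, ← bcMap_fst_apply k X L Ω] at hc
  obtain ⟨q, hq, rfl⟩ := surjOn_connectedComponent_galois k X L _ c hc
  obtain ⟨z, rfl⟩ := bcMap_surjective k X L Ω q
  have := bcMap_geometricallyConnected k X L Ω
  have hz : z ∈ connectedComponent x :=
    ((bcMap k X L Ω).isConnected_preimage (bcMap_isOpenMap k X L Ω) isConnected_connectedComponent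
      isClosed_connectedComponent).isPreconnected.subset_connectedComponent
      (show x ∈ bcMap k X L Ω ⁻¹' connectedComponent (bcMap k X L Ω x) from mem_connectedComponent) hq
  refine ⟨bcMap k X K Ω z, (bcMap k X K Ω).continuous.image_connectedComponent_subset x ⟨z, hz, rfl⟩, ?_⟩
  rw [bcMap_fst_apply, bcMap_fst_apply]

/-- Generic points of components of `X_K` lie over generic points of components of `X`. -/
theorem image_irreducibleComponent (K : Type u) [Field K] [Algebra k K] (T : Set (Curv2.bc k X K))
    (hT : T ∈ irreducibleComponents (Curv2.bc k X K)) :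
    Curv2.bcFst k X K '' T ∈ irreducibleComponents X := by
  have hTi : IsIrreducible T := hT.1
  have hTc : IsClosed T := isClosed_of_mem_irreducibleComponents T hT
  let ξ := hTi.genericPoint
  have hξ : IsGenericPoint ξ T := hTi.isGenericPoint_genericPoint hTc
  let η := Curv2.bcFst k X K ξ
  haveI : Flat (Curv2.bcFst k X K) := by
    haveI : Flat (Spec.map (CommRingCat.ofHom (algebraMap k K))) :=
      Flat.SpecMap_iff.mpr (RingHom.flat_algebraMap_iff.mpr inferInstance)
    infer_instance
  have hgen := Flat.generalizingMap (Curv2.bcFst k X K)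
  have hmax : ∀ y : X, y ⤳ η → η ⤳ y := by
    intro y hy
    obtain ⟨w, hw, rfl⟩ := hgen hy
    have : T ⊆ closure {w} := by
      rw [← hξ.def]
      exact closure_minimal (Set.singleton_subset_iff.mpr hw.mem_closure) isClosed_closure
    have heq : closure {w} = T :=
      subset_antisymm (hT.2 isIrreducible_singleton.closure this) this
    have : ξ ⤳ w := hξ.specializes (heq ▸ subset_closure rfl)
    exact this.map (Curv2.bcFst k X K).continuous
  have hZ : closure ({η} : Set X) ∈ irreducibleComponents X := by
    refine ⟨isIrreducible_singleton.closure, fun Z hZ hsub => ?_⟩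
    have hg := hZ.isGenericPoint_genericPoint_closure
    have h1 : hZ.genericPoint ⤳ η := hg.specializes (subset_closure (hsub (subset_closure rfl)))
    have h2 : closure Z ⊆ closure ({η} : Set X) := by
      rw [← hg.def]
      exact closure_minimal (Set.singleton_subset_iff.mpr (hmax _ h1).mem_closure) isClosed_closure
    exact subset_closure.trans h2
  suffices Curv2.bcFst k X K '' T = closure {η} by rwa [this]
  refine subset_antisymm ?_ ?_
  · rintro _ ⟨w, hw, rfl⟩
    exact ((hξ.specializes hw).map (Curv2.bcFst k X K).continuous).mem_closure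
  intro c hc
  let L := SeparableClosure k
  let Ω := AlgebraicClosure K
  let iL : L →ₐ[k] Ω := IsSepClosed.lift
  letI := iL.toRingHom.toAlgebra
  haveI : IsScalarTower k L Ω := .of_algebraMap_eq fun a => (iL.commutes a).symm
  obtain ⟨x, hx⟩ := bcMap_surjective k X K Ω ξ
  have hxη : Curv2.bcFst k X L (bcMap k X L Ω x) = η := by
    rw [bcMap_fst_apply, ← bcMap_fst_apply k X K Ω x, hx]
  obtain ⟨q, hq, rfl⟩ : c ∈ Curv2.bcFst k X L '' closure {bcMap k X L Ω x} := by
    haveI := isIntegralHom_bcFst k X L
    rw [← (Curv2.bcFst k X L).isClosedMap.closure_image_eq_of_continuous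
      (Curv2.bcFst k X L).continuous, Set.image_singleton, hxη]
    exact hc
  obtain ⟨z, rfl⟩ := bcMap_surjective k X L Ω q
  have := bcMap_geometricallyIrreducible k X L Ω
  have hirr := (bcMap k X L Ω).isIrreducible_preimage (bcMap_isOpenMap k X L Ω)
    (isIrreducible_singleton (x := bcMap k X L Ω x)).closure
  have hsub : T ⊆ closure (bcMap k X K Ω '' (bcMap k X L Ω ⁻¹' closure {bcMap k X L Ω x})) := by
    rw [← hξ.def]
    exact closure_minimal (Set.singleton_subset_iff.mpr
      (subset_closure ⟨x, subset_closure rfl, hx⟩)) isClosed_closure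
  have heq := hT.2 (hirr.image _ (bcMap k X K Ω).continuous.continuousOn).closure hsub
  refine ⟨bcMap k X K Ω z, heq (subset_closure ⟨z, hq, rfl⟩), ?_⟩
  rw [bcMap_fst_apply, bcMap_fst_apply]

theorem exists_irreducibleComponent_image_eq (K : Type u) [Field K] [Algebra k K] (Z : Set X)
    (hZ : Z ∈ irreducibleComponents X) :
    ∃ T ∈ irreducibleComponents (Curv2.bc k X K), Curv2.bcFst k X K '' T = Z := by
  have hZc : IsClosed Z := isClosed_of_mem_irreducibleComponents Z hZ
  have hη := hZ.1.isGenericPoint_genericPoint hZc
  obtain ⟨w, hw⟩ := (Curv2.bcFst k X K).surjective hZ.1.genericPoint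
  obtain ⟨T, hT, hwT⟩ := exists_mem_irreducibleComponents_subset_of_isIrreducible {w} isIrreducible_singleton
  refine ⟨T, hT, ?_⟩
  have h1 := image_irreducibleComponent k X K T hT
  have h2 : Z ⊆ Curv2.bcFst k X K '' T := by
    rw [← hη.def]
    exact closure_minimal (Set.singleton_subset_iff.mpr ⟨w, hwT rfl, hw⟩)
      (isClosed_of_mem_irreducibleComponents _ h1)
  exact subset_antisymm (hZ.2 h1.1 h2) h2

/-- A Galois invariant closed subset of `X_L` descends. -/
theorem preimage_image_of_invariant (L : Type u) [Field L] [Algebra k L] [Normal k L]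
    (T : Set (Curv2.bc k X L)) (hinv : ∀ σ : L ≃ₐ[k] L, Curv2.galAct k X L σ '' T = T) :
    Curv2.bcFst k X L ⁻¹' (Curv2.bcFst k X L '' T) = T := by
  refine subset_antisymm ?_ (Set.subset_preimage_image _ _)
  rintro y ⟨t, ht, hty⟩
  obtain ⟨σ, hσ⟩ := exists_galAct_eq k X L t y hty
  rw [← hinv σ, ← hσ]
  exact ⟨t, ht, rfl⟩

end Groth.Agent.Lib.GeomConn.Components
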