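import Mathlib.AlgebraicGeometry.Geometrically.Irreducible
import Mathlib.AlgebraicGeometry.Geometrically.Connected
import Mathlib.AlgebraicGeometry.Morphisms.UniversallyOpen
import Mathlib.AlgebraicGeometry.Pullbacks
import Mathlib.FieldTheory.IsSepClosed
import Mathlib.FieldTheory.PurelyInseparable.Basic
import Mathlib.FieldTheory.IsAlgClosed.AlgebraicClosure
import Mathlib.RingTheory.TensorProduct.Free
import Mathlib.RingTheory.Jacobson.Ring
import Mathlib.RingTheory.Nullstellensatz
import Mathlib.RingTheory.Flat.Basic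

/-!
Over a separably closed field `k`, every field extension is geometrically irreducible.
-/

set_option linter.style.haveILetI false

universe u

open CategoryTheory CategoryTheory.Limits AlgebraicGeometry TensorProduct

namespace Groth.Agent.Lib.GeomConn.SepClosed

/-- A maximal ideal of a finitely generated algebra over an algebraically closed field has
residue field `k`. -/
theorem exists_eval {k A : Type u} [Field k] [IsAlgClosed k] [CommRing A] [Algebra k A]
    [Algebra.FiniteType k A] (m : Ideal A) [m.IsMaximal] :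
    ∃ e : A →ₐ[k] k, RingHom.ker e = m := by
  let := Ideal.Quotient.field m
  have : Algebra.FiniteType k (A ⧸ m) :=
    .of_surjective (Ideal.Quotient.mkₐ k m) Ideal.Quotient.mk_surjective
  have : Module.Finite k (A ⧸ m) := finite_of_finite_type_of_isJacobsonRing k (A ⧸ m)
  have hb : Function.Bijective (algebraMap k (A ⧸ m)) :=
    IsAlgClosed.algebraMap_bijective_of_isIntegral
  refine ⟨(AlgEquiv.ofBijective (Algebra.ofId k (A ⧸ m)) hb).symm.toAlgHom.comp
    (Ideal.Quotient.mkₐ k m), ?_⟩
  ext a
  simp [RingHom.mem_ker, Ideal.Quotient.eq_zero_iff_mem]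

theorem eq_zero_or_eq_zero_of_fg {k A B : Type u} [Field k] [IsAlgClosed k] [CommRing A] [IsDomain A]
    [Algebra k A] [Algebra.FiniteType k A] [CommRing B] [IsDomain B] [Algebra k B]
    (x y : A ⊗[k] B) (h : x * y = 0) : x = 0 ∨ y = 0 := by
  let b := Module.Basis.ofVectorSpace k B
  let bA := Algebra.TensorProduct.basis A b
  let Φ (e : A →ₐ[k] k) : A ⊗[k] B →ₐ[k] B :=
    (Algebra.TensorProduct.lift ((Algebra.ofId k B).comp e) (AlgHom.id k B) fun _ _ => .all _ _)
  have hΦ : ∀ (e : A →ₐ[k] k) (z : A ⊗[k] B) i, b.repr (Φ e z) i = e (bA.repr z i) := by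
    intro e z i
    induction z using TensorProduct.induction_on with
    | zero => simp
    | tmul a c =>
      simp [Φ, bA, Algebra.TensorProduct.basis_repr_tmul, Algebra.ofId_apply]
      rw [← Algebra.smul_def, map_smul, Finsupp.smul_apply, smul_eq_mul]
    | add z z' hz hz' => simp [map_add, hz, hz']
  by_contra hne
  push Not at hne
  obtain ⟨i, hi⟩ : ∃ i, bA.repr x i ≠ 0 := by
    by_contra! hc
    exact hne.1 (bA.repr.injective (Finsupp.ext fun i => by simpa using hc i))
  obtain ⟨j, hj⟩ : ∃ j, bA.repr y j ≠ 0 := by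
    by_contra! hc
    exact hne.2 (bA.repr.injective (Finsupp.ext fun i => by simpa using hc i))
  have hmem : bA.repr x i * bA.repr y j ∈ (⊥ : Ideal A).jacobson := by
    simp only [Ideal.jacobson, Submodule.mem_sInf]
    rintro m ⟨-, hm⟩
    obtain ⟨e, he⟩ := exists_eval (k := k) m
    rw [← he, RingHom.mem_ker, map_mul]
    have h2 : Φ e x * Φ e y = 0 := by rw [← map_mul, h, map_zero]
    rcases mul_eq_zero.mp h2 with h3 | h3
    · rw [← hΦ, h3]; simp
    · rw [← hΦ e y, h3]; simp
  have : IsJacobsonRing A := isJacobsonRing_of_finiteType (A := k)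
  rw [IsJacobsonRing.out ‹IsJacobsonRing A› (Ideal.isRadical_bot_iff.mpr inferInstance)] at hmem
  exact mul_ne_zero hi hj (by simpa using hmem)

/-- Over an algebraically closed field the tensor product of two domains is a domain. -/
theorem eq_zero_or_eq_zero {k A B : Type u} [Field k] [IsAlgClosed k] [CommRing A] [IsDomain A]
    [Algebra k A] [CommRing B] [IsDomain B] [Algebra k B]
    (x y : A ⊗[k] B) (h : x * y = 0) : x = 0 ∨ y = 0 := by
  obtain ⟨s, hs⟩ := TensorProduct.exists_finset x
  obtain ⟨t, ht⟩ := TensorProduct.exists_finset y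
  classical
  let A' : Subalgebra k A := Algebra.adjoin k ((s.image Prod.fst ∪ t.image Prod.fst : Finset A) : Set A)
  have : Algebra.FiniteType k A' :=
    ⟨(Subalgebra.fg_top A').mpr (Subalgebra.fg_adjoin_finset _)⟩
  let f : A' ⊗[k] B →ₐ[k] A ⊗[k] B := Algebra.TensorProduct.map A'.val (AlgHom.id k B)
  have hf : Function.Injective f :=
    Module.Flat.rTensor_preserves_injective_linearMap (M := B) A'.val.toLinearMap Subtype.val_injective
  have hmem : ∀ (u : Finset (A × B)) (_ : ∀ p ∈ u, p.1 ∈ A'), ∀ z,
      z = ∑ p ∈ u, p.1 ⊗ₜ[k] p.2 → ∃ z', f z' = z := by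
    rintro u hu _ rfl
    refine ⟨∑ p ∈ u.attach, (⟨p.1.1, hu p.1 p.2⟩ : A') ⊗ₜ p.1.2, ?_⟩
    rw [map_sum]
    exact (Finset.sum_attach u fun p => p.1 ⊗ₜ[k] p.2)
  obtain ⟨x', rfl⟩ := hmem s (fun p hp => Algebra.subset_adjoin (by simpa using Or.inl ⟨p.2, hp⟩)) x hs
  obtain ⟨y', rfl⟩ := hmem t (fun p hp => Algebra.subset_adjoin (by simpa using Or.inr ⟨p.2, hp⟩)) y ht
  rw [← map_mul, ← map_zero f] at h
  rcases eq_zero_or_eq_zero_of_fg x' y' (hf h) with rfl | rfl
  · exact Or.inl (map_zero f)
  · exact Or.inr (map_zero f)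

/-- Over a separably closed field `k`, `Spec (K ⊗ L)` is irreducible for all field extensions. -/
theorem irreducibleSpace_spec_tensor (k K L : Type u) [Field k] [IsSepClosed k] [Field K]
    [Algebra k K] [Field L] [Algebra k L] :
    IrreducibleSpace (PrimeSpectrum (K ⊗[k] L)) := by
  let Ω := AlgebraicClosure k
  have : IsPurelyInseparable k Ω :=
    (isSepClosed_iff_isPurelyInseparable_algebraicClosure k Ω).mp inferInstance
  let iK : Ω →ₐ[k] AlgebraicClosure K := IsAlgClosed.lift
  let iL : Ω →ₐ[k] AlgebraicClosure L := IsAlgClosed.lift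
  letI := iK.toRingHom.toAlgebra
  letI := iL.toRingHom.toAlgebra
  haveI : IsScalarTower k Ω (AlgebraicClosure K) := .of_algebraMap_eq fun c => (iK.commutes c).symm
  haveI : IsScalarTower k Ω (AlgebraicClosure L) := .of_algebraMap_eq fun c => (iL.commutes c).symm
  let D := AlgebraicClosure K ⊗[Ω] AlgebraicClosure L
  let g : K ⊗[k] L →ₐ[k] D :=
    Algebra.TensorProduct.lift
      (((Algebra.TensorProduct.includeLeft : AlgebraicClosure K →ₐ[Ω] D).restrictScalars k).comp
        (IsScalarTower.toAlgHom k K (AlgebraicClosure K)))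
      (((Algebra.TensorProduct.includeRight : AlgebraicClosure L →ₐ[Ω] D).restrictScalars k).comp
        (IsScalarTower.toAlgHom k L (AlgebraicClosure L)))
      fun _ _ => .all _ _
  have : Nontrivial D := inferInstance
  haveI : NoZeroDivisors D := ⟨fun {x y} h => eq_zero_or_eq_zero x y h⟩
  haveI : IsDomain D := NoZeroDivisors.to_isDomain D
  have hQ : ∀ (Q : Type u) [Field Q] [IsAlgClosed Q] [Algebra k Q] (e : K ⊗[k] L →ₐ[k] Q),
      ∀ z ∈ RingHom.ker g, e z = 0 := by
    intro Q _ _ _ e
    let eK : K →ₐ[k] Q := e.comp Algebra.TensorProduct.includeLeft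
    let eL : L →ₐ[k] Q := e.comp Algebra.TensorProduct.includeRight
    letI : Algebra K Q := eK.toRingHom.toAlgebra
    letI : Algebra L Q := eL.toRingHom.toAlgebra
    haveI : IsScalarTower k K Q := .of_algebraMap_eq fun c => (eK.commutes c).symm
    haveI : IsScalarTower k L Q := .of_algebraMap_eq fun c => (eL.commutes c).symm
    let fK : AlgebraicClosure K →ₐ[K] Q := IsAlgClosed.lift
    let fL : AlgebraicClosure L →ₐ[L] Q := IsAlgClosed.lift
    have hΩ : (fK.restrictScalars k).comp iK = (fL.restrictScalars k).comp iL :=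
      Subsingleton.elim _ _
    letI : Algebra Ω Q := ((fK.restrictScalars k).comp iK).toRingHom.toAlgebra
    let fK' : AlgebraicClosure K →ₐ[Ω] Q := { fK.toRingHom with commutes' := fun _ => rfl }
    let fL' : AlgebraicClosure L →ₐ[Ω] Q :=
      { fL.toRingHom with commutes' := fun c => (DFunLike.congr_fun hΩ c).symm }
    let ψ : D →ₐ[Ω] Q := Algebra.TensorProduct.lift fK' fL' fun _ _ => .all _ _
    have hψ : ∀ z, ψ (g z) = e z := by
      intro z
      induction z using TensorProduct.induction_on with
      | zero => simp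
      | tmul a c =>
        have h1 : fK (algebraMap K _ a) = e (a ⊗ₜ 1) := fK.commutes a
        have h2 : fL (algebraMap L _ c) = e (1 ⊗ₜ c) := fL.commutes c
        have h3 : (a ⊗ₜ[k] c : K ⊗[k] L) = (a ⊗ₜ 1) * (1 ⊗ₜ c) := by simp
        conv_rhs => rw [h3, map_mul, ← h1, ← h2]
        have hg : g (a ⊗ₜ c) = (algebraMap K (AlgebraicClosure K) a ⊗ₜ[Ω] (1 : AlgebraicClosure L)) *
            ((1 : AlgebraicClosure K) ⊗ₜ[Ω] algebraMap L (AlgebraicClosure L) c) := rfl
        rw [hg, map_mul]
        refine congrArg₂ (· * ·) ?_ ?_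
        · change fK _ * fL 1 = fK _
          rw [map_one, mul_one]
        · change fK 1 * fL _ = fL _
          rw [map_one, one_mul]
      | add z z' hz hz' => simp [map_add, hz, hz']
    intro z hz
    rw [← hψ, RingHom.mem_ker.mp hz, map_zero]
  rw [PrimeSpectrum.irreducibleSpace_iff_isPrime_nilradical]
  have key : nilradical (K ⊗[k] L) = RingHom.ker g := by
    refine le_antisymm (fun z hz => ((mem_nilradical.mp hz).map g).eq_zero) ?_
    rw [nilradical_eq_sInf]
    refine le_sInf fun p (hp : p.IsPrime) => ?_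
    intro z hz
    have h0 := hQ (AlgebraicClosure p.ResidueField)
      ((IsScalarTower.toAlgHom k p.ResidueField (AlgebraicClosure p.ResidueField)).comp
        (IsScalarTower.toAlgHom k (K ⊗[k] L) p.ResidueField)) z hz
    exact Ideal.algebraMap_residueField_eq_zero.mp
      ((RingHom.injective (algebraMap p.ResidueField (AlgebraicClosure p.ResidueField)))
        (h0.trans (map_zero _).symm))
  rw [key]
  exact RingHom.ker_isPrime g

/-- Over a separably closed field every field extension is geometrically irreducible. -/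
theorem geometricallyIrreducible_specMap (k K : Type u) [Field k] [IsSepClosed k] [Field K]
    [Algebra k K] :
    GeometricallyIrreducible (Spec.map (CommRingCat.ofHom (algebraMap k K))) := by
  refine ⟨geometrically_iff_of_commRing_of_isClosedUnderIsomorphisms.mpr fun L _ _ => ?_⟩
  have := irreducibleSpace_spec_tensor k K L
  exact (pullbackSpecIso k K L).hom.homeomorph.irreducibleSpace_iff.mpr this

/-- Over a separably closed field every field extension is geometrically connected. -/
theorem geometricallyConnected_specMap (k K : Type u) [Field k] [IsSepClosed k] [Field K]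
    [Algebra k K] :
    GeometricallyConnected (Spec.map (CommRingCat.ofHom (algebraMap k K))) := by
  refine ⟨geometrically_iff_of_commRing_of_isClosedUnderIsomorphisms.mpr fun L _ _ => ?_⟩
  have := irreducibleSpace_spec_tensor k K L
  have := (pullbackSpecIso k K L).hom.homeomorph.irreducibleSpace_iff.mpr this
  infer_instance

example (k K : Type u) [Field k] [Field K] [Algebra k K] :
    UniversallyOpen (Spec.map (CommRingCat.ofHom (algebraMap k K))) := inferInstance

end Groth.Agent.Lib.GeomConn.SepClosed
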