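import Groth.Agent.Lib.GeomConn.Components

/-!
Criteria for geometric connectedness / irreducibility over a field.
-/

set_option linter.style.haveILetI false

universe u

open CategoryTheory CategoryTheory.Limits AlgebraicGeometry Topology
open Groth.Agent.Lib.GeomConn.OrbitQuot Groth.Agent.Lib.GeomConn.Galois
open Groth.Agent.Lib.GeomConn.Components

namespace Groth.Agent.Lib.GeomConn.Geometric

variable (k : Type u) [Field k] (X : Scheme.{u}) [X.Over (Spec (CommRingCat.of k))]

theorem geometricallyConnected_iff_forall :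
    GeometricallyConnected (X ↘ Spec (CommRingCat.of k)) ↔
      ∀ (K : Type u) [Field K] [Algebra k K], ConnectedSpace (Curv2.bc k X K) := by
  rw [GeometricallyConnected.eq_geometrically]
  exact geometrically_iff_of_commRing_of_isClosedUnderIsomorphisms

theorem geometricallyIrreducible_iff_forall :
    GeometricallyIrreducible (X ↘ Spec (CommRingCat.of k)) ↔
      ∀ (K : Type u) [Field K] [Algebra k K], IrreducibleSpace (Curv2.bc k X K) := by
  rw [GeometricallyIrreducible.eq_geometrically]
  exact geometrically_iff_of_commRing_of_isClosedUnderIsomorphisms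

theorem connectedSpace_of_surjective {A B : Type u} [TopologicalSpace A] [TopologicalSpace B]
    [ConnectedSpace A] {f : A → B} (hf : Continuous f) (hs : Function.Surjective f) : ConnectedSpace B :=
  connectedSpace_iff_univ.mpr (hs.range_eq ▸ isConnected_range hf)

theorem irreducibleSpace_of_surjective {A B : Type u} [TopologicalSpace A] [TopologicalSpace B]
    [IrreducibleSpace A] {f : A → B} (hf : Continuous f) (hs : Function.Surjective f) :
    IrreducibleSpace B :=
  irreducibleSpace_def _ |>.mpr (by
    rw [Set.top_eq_univ, ← hs.range_eq, ← Set.image_univ]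
    exact (IrreducibleSpace.isIrreducible_univ A).image f hf.continuousOn)

/-- The separable closure embeds compatibly into the algebraic closure of any extension. -/
noncomputable abbrev sepEmb (K : Type u) [Field K] [Algebra k K] :
    SeparableClosure k →ₐ[k] AlgebraicClosure K := IsSepClosed.lift

theorem connectedSpace_bc_of_sepClosure [ConnectedSpace (Curv2.bc k X (SeparableClosure k))]
    (K : Type u) [Field K] [Algebra k K] : ConnectedSpace (Curv2.bc k X K) := by
  let L := SeparableClosure k
  let Ω := AlgebraicClosure K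
  letI := (sepEmb k K).toRingHom.toAlgebra
  haveI : IsScalarTower k L Ω := .of_algebraMap_eq fun a => ((sepEmb k K).commutes a).symm
  haveI := bcMap_geometricallyConnected k X L Ω
  haveI : ConnectedSpace (Curv2.bc k X Ω) :=
    GeometricallyConnected.connectedSpace (bcMap k X L Ω) (bcMap_isOpenMap k X L Ω)
  exact connectedSpace_of_surjective (bcMap k X K Ω).continuous (bcMap_surjective k X K Ω)

theorem irreducibleSpace_bc_of_sepClosure [IrreducibleSpace (Curv2.bc k X (SeparableClosure k))]
    (K : Type u) [Field K] [Algebra k K] : IrreducibleSpace (Curv2.bc k X K) := by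
  let L := SeparableClosure k
  let Ω := AlgebraicClosure K
  letI := (sepEmb k K).toRingHom.toAlgebra
  haveI : IsScalarTower k L Ω := .of_algebraMap_eq fun a => ((sepEmb k K).commutes a).symm
  haveI := bcMap_geometricallyIrreducible k X L Ω
  haveI : IrreducibleSpace (Curv2.bc k X Ω) :=
    GeometricallyIrreducible.irreducibleSpace (bcMap k X L Ω) (bcMap_isOpenMap k X L Ω)
  exact irreducibleSpace_of_surjective (bcMap k X K Ω).continuous (bcMap_surjective k X K Ω)

theorem geometricallyConnected_iff_sepClosure :
    GeometricallyConnected (X ↘ Spec (CommRingCat.of k)) ↔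
      ConnectedSpace (Curv2.bc k X (SeparableClosure k)) := by
  rw [geometricallyConnected_iff_forall]
  exact ⟨fun h => h _, fun _ K _ _ => connectedSpace_bc_of_sepClosure k X K⟩

theorem geometricallyIrreducible_iff_sepClosure :
    GeometricallyIrreducible (X ↘ Spec (CommRingCat.of k)) ↔
      IrreducibleSpace (Curv2.bc k X (SeparableClosure k)) := by
  rw [geometricallyIrreducible_iff_forall]
  exact ⟨fun h => h _, fun _ K _ _ => irreducibleSpace_bc_of_sepClosure k X K⟩

/-- A connectedness property of `X_Ω` for a big `Ω` descends to every smaller extension. -/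
theorem connectedSpace_bc_of_tower (K Ω : Type u) [Field K] [Field Ω] [Algebra k K] [Algebra k Ω]
    [Algebra K Ω] [IsScalarTower k K Ω] [ConnectedSpace (Curv2.bc k X Ω)] :
    ConnectedSpace (Curv2.bc k X K) :=
  connectedSpace_of_surjective (bcMap k X K Ω).continuous (bcMap_surjective k X K Ω)

theorem irreducibleSpace_bc_of_tower (K Ω : Type u) [Field K] [Field Ω] [Algebra k K] [Algebra k Ω]
    [Algebra K Ω] [IsScalarTower k K Ω] [IrreducibleSpace (Curv2.bc k X Ω)] :
    IrreducibleSpace (Curv2.bc k X K) :=
  irreducibleSpace_of_surjective (bcMap k X K Ω).continuous (bcMap_surjective k X K Ω)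

theorem geometricallyConnected_of_bc (k' : Type u) [Field k'] [Algebra k k']
    [GeometricallyConnected (Curv2.bcSnd k X k')] :
    GeometricallyConnected (X ↘ Spec (CommRingCat.of k)) := by
  rw [geometricallyConnected_iff_sepClosure]
  let Ω := AlgebraicClosure k'
  letI := (sepEmb k k').toRingHom.toAlgebra
  haveI : IsScalarTower k (SeparableClosure k) Ω :=
    .of_algebraMap_eq fun a => ((sepEmb k k').commutes a).symm
  haveI : ConnectedSpace (Curv2.bc k X Ω) :=
    GeometricallyConnected.geometrically_connectedSpace (f := Curv2.bcSnd k X k') _ _ _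
      (isPullback_bcMap k X k' Ω)
  exact connectedSpace_bc_of_tower k X _ Ω

theorem geometricallyIrreducible_of_bc (k' : Type u) [Field k'] [Algebra k k']
    [GeometricallyIrreducible (Curv2.bcSnd k X k')] :
    GeometricallyIrreducible (X ↘ Spec (CommRingCat.of k)) := by
  rw [geometricallyIrreducible_iff_sepClosure]
  let Ω := AlgebraicClosure k'
  letI := (sepEmb k k').toRingHom.toAlgebra
  haveI : IsScalarTower k (SeparableClosure k) Ω :=
    .of_algebraMap_eq fun a => ((sepEmb k k').commutes a).symm
  haveI : IrreducibleSpace (Curv2.bc k X Ω) :=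
    GeometricallyIrreducible.geometrically_irreducibleSpace (f := Curv2.bcSnd k X k') _ _ _
      (isPullback_bcMap k X k' Ω)
  exact irreducibleSpace_bc_of_tower k X _ Ω

/-- Points of `X_L` with the same image in `X_E` are conjugate under `Gal(L/E)`. -/
theorem exists_galAct_fixing_eq (L : Type u) [Field L] [Algebra k L] [Normal k L]
    (E : IntermediateField k L) (x y : Curv2.bc k X L)
    (h : bcMap k X E L x = bcMap k X E L y) :
    ∃ σ : L ≃ₐ[k] L, (∀ c ∈ E, σ c = c) ∧ Curv2.galAct k X L σ x = y := by
  obtain ⟨z, rfl, rfl⟩ :=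
    Scheme.Pullback.exists_preimage_pullback (f := bcMap k X E L) (g := bcMap k X E L) x y h
  let Q := pullback (bcMap k X E L) (bcMap k X E L)
  let κ : Type u := ↑(Q.residueField z)
  let p := Q.fromSpecResidueField z ≫ pullback.fst (bcMap k X E L) (bcMap k X E L)
  let q := Q.fromSpecResidueField z ≫ pullback.snd (bcMap k X E L) (bcMap k X E L)
  let a : L →+* κ := (Spec.preimage (p ≫ Curv2.bcSnd k X L)).hom
  let b : L →+* κ := (Spec.preimage (q ≫ Curv2.bcSnd k X L)).hom
  have hw' : p ≫ bcMap k X E L = q ≫ bcMap k X E L := by simp [p, q, pullback.condition]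
  have hw : p ≫ Curv2.bcFst k X L = q ≫ Curv2.bcFst k X L := by
    rw [← bcMap_fst k X E L]
    exact ((Category.assoc _ _ _).symm.trans (congr($hw' ≫ Curv2.bcFst k X E))).trans
      (Category.assoc _ _ _)
  have ha : Spec.map (CommRingCat.ofHom a) = p ≫ Curv2.bcSnd k X L := Spec.map_preimage _
  have hb : Spec.map (CommRingCat.ofHom b) = q ≫ Curv2.bcSnd k X L := Spec.map_preimage _
  have hab : ∀ c : E, b (algebraMap E L c) = a (algebraMap E L c) := by
    have : Spec.map (CommRingCat.ofHom (b.comp (algebraMap E L))) =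
        Spec.map (CommRingCat.ofHom (a.comp (algebraMap E L))) := by
      have e1 : ∀ r : L →+* κ, Spec.map (CommRingCat.ofHom (r.comp (algebraMap E L))) =
          Spec.map (CommRingCat.ofHom r) ≫ Spec.map (CommRingCat.ofHom (algebraMap E L)) :=
        fun r => Spec.map_comp (CommRingCat.ofHom (algebraMap E L)) (CommRingCat.ofHom r)
      refine (e1 b).trans (Eq.trans ?_ (e1 a).symm)
      rw [ha, hb]
      have h1 : (q ≫ bcMap k X E L) ≫ Curv2.bcSnd k X E =
          (p ≫ bcMap k X E L) ≫ Curv2.bcSnd k X E := by rw [hw']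
      simp only [Category.assoc, bcMap_snd] at h1 ⊢
      exact h1
    intro c
    exact congr(($(Spec.map_injective this)).hom c)
  letI : Algebra L κ := a.toAlgebra
  haveI : Normal E L := Normal.tower_top_of_normal k E L
  let b' : L →ₐ[E] κ := { b with commutes' := hab }
  let f : L →ₐ[E] L := AlgHom.restrictNormal b' L
  have hf : ∀ c, a (f c) = b c := fun c => AlgHom.restrictNormal_commutes b' L c
  let σ : L ≃ₐ[k] L := (AlgEquiv.ofBijective f (AlgHom.normal_bijective E L L f)).restrictScalars k
  refine ⟨σ, fun c hc => f.commutes ⟨c, hc⟩, ?_⟩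
  have hq : p ≫ Curv2.galAct k X L σ = q := by
    refine pullback.hom_ext ?_ ?_
    · rw [Category.assoc, galAct_fst, hw]
    · rw [Category.assoc, galAct_snd, ← Category.assoc, ← ha, ← hb, ← Spec.map_comp]
      congr 1
      ext c
      exact hf c
  let pt : Spec (Q.residueField z) := IsLocalRing.closedPoint (Q.residueField z)
  have h2 := congr($hq pt)
  change Curv2.galAct k X L _ (pullback.fst (bcMap k X E L) (bcMap k X E L)
    (Q.fromSpecResidueField z pt)) = pullback.snd (bcMap k X E L) (bcMap k X E L)
    (Q.fromSpecResidueField z pt) at h2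
  rwa [Scheme.fromSpecResidueField_apply] at h2

/-- An open subgroup of a Galois group contains the fixing group of a finite extension. -/
theorem exists_finiteDimensional_le (L : Type u) [Field L] [Algebra k L]
    (N : OpenSubgroup (L ≃ₐ[k] L)) :
    ∃ E : IntermediateField k L, FiniteDimensional k E ∧
      ∀ σ : L ≃ₐ[k] L, (∀ c ∈ E, σ c = c) → σ ∈ N := by
  obtain ⟨E, hE, hEN⟩ := (krullTopology_mem_nhds_one_iff k L _).mp (N.isOpen.mem_nhds (one_mem N))
  exact ⟨E, hE, fun σ hσ => hEN ((IntermediateField.mem_fixingSubgroup_iff E σ).mpr hσ)⟩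

/-- `X` is geometrically connected if all finite separable base changes are connected. -/
theorem geometricallyConnected_of_finite_separable
    (h : ∀ (k' : Type u) [Field k'] [Algebra k k'] [FiniteDimensional k k'] [Algebra.IsSeparable k k'],
      ConnectedSpace (Curv2.bc k X k')) :
    GeometricallyConnected (X ↘ Spec (CommRingCat.of k)) := by
  rw [geometricallyConnected_iff_sepClosure]
  let L := SeparableClosure k
  haveI := h k
  haveI : ConnectedSpace X :=
    connectedSpace_of_surjective (Curv2.bcFst k X k).continuous (Curv2.bcFst k X k).surjective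
  have hπ := isOrbitMap k X L
  haveI : Nonempty (Curv2.bc k X L) := ⟨(hπ.surjective (Classical.arbitrary X)).choose⟩
  haveI : PreconnectedSpace (Curv2.bc k X L) := by
    refine preconnectedSpace_iff_clopen.mpr fun U hU => or_iff_not_imp_left.mpr fun hne => ?_
    rw [← ne_eq, ← Set.nonempty_iff_ne_empty] at hne
    obtain ⟨N, hN⟩ := hπ.exists_openSubgroup_clopen hU
    obtain ⟨E, hE, hEN⟩ := exists_finiteDimensional_le k L N
    haveI : Algebra.IsSeparable k E := Algebra.isSeparable_tower_bot_of_isSeparable k E L
    haveI := h E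
    let ρ := bcMap k X E L
    have hd : ∀ u ∈ U, ∀ v, ρ u = ρ v → v ∈ U := by
      intro u hu v huv
      obtain ⟨σ, hσ, rfl⟩ := exists_galAct_fixing_eq k X L E u v huv
      have := (hN σ⁻¹ (inv_mem (hEN σ hσ)) u).mpr hu
      simpa [smul_def] using this
    have hcl : IsClosed (ρ '' U) := by
      have : ρ '' U = (ρ '' Uᶜ)ᶜ := by
        ext w
        obtain ⟨v, rfl⟩ := bcMap_surjective k X E L w
        constructor
        · rintro ⟨u, hu, huv⟩ ⟨v', hv', hvv⟩
          exact hv' (hd u hu v' (huv.trans hvv.symm))
        · intro hv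
          exact ⟨v, by_contra fun hvU => hv ⟨v, hvU, rfl⟩, rfl⟩
      rw [this]
      exact (bcMap_isOpenMap k X E L _ hU.compl.2).isClosed_compl
    have huniv := IsClopen.eq_univ ⟨hcl, bcMap_isOpenMap k X E L _ hU.2⟩ (hne.image ρ)
    refine Set.eq_univ_of_forall fun v => ?_
    obtain ⟨u, hu, huv⟩ : ρ v ∈ ρ '' U := huniv ▸ Set.mem_univ (ρ v)
    exact hd u hu v huv
  exact ⟨inferInstance⟩

/-- `X` is geometrically irreducible if all finite separable base changes are irreducible. -/
theorem geometricallyIrreducible_of_finite_separable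
    (h : ∀ (k' : Type u) [Field k'] [Algebra k k'] [FiniteDimensional k k'] [Algebra.IsSeparable k k'],
      IrreducibleSpace (Curv2.bc k X k')) :
    GeometricallyIrreducible (X ↘ Spec (CommRingCat.of k)) := by
  rw [geometricallyIrreducible_iff_sepClosure]
  let L := SeparableClosure k
  haveI := h k
  haveI : Nonempty X := (Nonempty.map (Curv2.bcFst k X k)) inferInstance
  have hπ := isOrbitMap k X L
  haveI : Nonempty (Curv2.bc k X L) := ⟨(hπ.surjective (Classical.arbitrary X)).choose⟩
  haveI : PreirreducibleSpace (Curv2.bc k X L) := by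
    refine ⟨fun U V hU hV => ?_⟩
    rintro ⟨u, -, hu⟩ ⟨v, -, hv⟩
    obtain ⟨U', hU'o, huU', hU'U, N, hN⟩ := exists_basic k X L u U hU hu
    obtain ⟨V', hV'o, hvV', hV'V, M, hM⟩ := exists_basic k X L v V hV hv
    obtain ⟨E, hE, hEN⟩ := exists_finiteDimensional_le k L (N ⊓ M)
    haveI : Algebra.IsSeparable k E := Algebra.isSeparable_tower_bot_of_isSeparable k E L
    haveI := h E
    obtain ⟨_, -, ⟨a, ha, rfl⟩, b, hb, hab⟩ :=
      (IrreducibleSpace.isIrreducible_univ (Curv2.bc k X E)).isPreirreducible
      (bcMap k X E L '' U') (bcMap k X E L '' V') (bcMap_isOpenMap k X E L _ hU'o)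
      (bcMap_isOpenMap k X E L _ hV'o) ⟨_, trivial, u, huU', rfl⟩ ⟨_, trivial, v, hvV', rfl⟩
    obtain ⟨σ, hσ, rfl⟩ := exists_galAct_fixing_eq k X L E b a hab
    have := hM σ⁻¹ (inv_mem (hEN σ hσ).2) b hb
    refine ⟨_, trivial, hU'U ha, hV'V ?_⟩
    simpa [smul_def] using this
  exact ⟨inferInstance⟩

end Groth.Agent.Lib.GeomConn.Geometric
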