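import Groth.Prelude.Def_CurvBase
import Mathlib.AlgebraicGeometry.ResidueField
import Mathlib.AlgebraicGeometry.AffineScheme

/-! The structure map on residue fields of a scheme over a field. -/

set_option autoImplicit false
universe u
open CategoryTheory AlgebraicGeometry

namespace Groth.Agent.Lib.GeomConn.Residue

variable (k : Type u) [Field k] (X : Scheme.{u}) [X.Over (Spec (CommRingCat.of k))]

theorem specMap_stalkMap (x : X) :
    Spec.map (CommRingCat.ofHom (Curv2.stalkMap k X x)) =
      X.fromSpecStalk x ≫ X ↘ Spec (CommRingCat.of k) := by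
  have hf : X ↘ Spec (CommRingCat.of k) = X.toSpecΓ ≫
      Spec.map ((Scheme.ΓSpecIso (CommRingCat.of k)).inv ≫ (X ↘ Spec (CommRingCat.of k)).appTop) := by
    rw [Spec.map_comp, ← Scheme.toSpecΓ_naturality_assoc, toSpecΓ_SpecMap_ΓSpecIso_inv]
    simp
  rw [hf, Scheme.fromSpecStalk_toSpecΓ_assoc, ← Spec.map_comp]
  rfl

theorem specMap_resMap (x : X) :
    Spec.map (CommRingCat.ofHom (Curv2.resMap k X x)) =
      X.fromSpecResidueField x ≫ X ↘ Spec (CommRingCat.of k) := by
  rw [Scheme.fromSpecResidueField, Category.assoc, ← specMap_stalkMap, ← Spec.map_comp]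
  rfl

end Groth.Agent.Lib.GeomConn.Residue
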