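import Groth.Agent.Lib.GeomConn.Geometric
import Mathlib.AlgebraicGeometry.Noetherian
import Mathlib.AlgebraicGeometry.Morphisms.FiniteType
import Mathlib.AlgebraicGeometry.Morphisms.Affine
import Mathlib.Topology.Irreducible

/-!
The Galois action on connected and irreducible components.
-/

set_option linter.style.haveILetI false

universe u

open CategoryTheory CategoryTheory.Limits AlgebraicGeometry Topology
open Groth.Agent.Lib.GeomConn.OrbitQuot Groth.Agent.Lib.GeomConn.Galois
open Groth.Agent.Lib.GeomConn.Components Groth.Agent.Lib.GeomConn.Geometric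

namespace Groth.Agent.Lib.GeomConn.GaloisComponents

variable (k : Type u) [Field k] (X : Scheme.{u}) [X.Over (Spec (CommRingCat.of k))]
variable (K : Type u) [Field K] [Algebra k K]

theorem galAct_inv_apply (σ : K ≃ₐ[k] K) (x : Curv2.bc k X K) :
    Curv2.galAct k X K σ⁻¹ (Curv2.galAct k X K σ x) = x := by
  rw [← Scheme.Hom.comp_apply, galAct_comp, mul_inv_cancel, galAct_one]
  rfl

theorem galAct_apply_inv (σ : K ≃ₐ[k] K) (x : Curv2.bc k X K) :
    Curv2.galAct k X K σ (Curv2.galAct k X K σ⁻¹ x) = x := by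
  simpa using galAct_inv_apply k X K σ⁻¹ x

/-- `galAct σ` as a homeomorphism. -/
noncomputable def galHomeo (σ : K ≃ₐ[k] K) : Curv2.bc k X K ≃ₜ Curv2.bc k X K where
  toFun := Curv2.galAct k X K σ
  invFun := Curv2.galAct k X K σ⁻¹
  left_inv := galAct_inv_apply k X K σ
  right_inv := galAct_apply_inv k X K σ
  continuous_toFun := (Curv2.galAct k X K σ).continuous
  continuous_invFun := (Curv2.galAct k X K σ⁻¹).continuous

theorem galHomeo_apply (σ : K ≃ₐ[k] K) (x : Curv2.bc k X K) :
    galHomeo k X K σ x = Curv2.galAct k X K σ x := rfl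

theorem image_galAct_connectedComponent (σ : K ≃ₐ[k] K) (t : Curv2.bc k X K) :
    Curv2.galAct k X K σ '' connectedComponent t = connectedComponent (Curv2.galAct k X K σ t) := by
  refine subset_antisymm ((Curv2.galAct k X K σ).continuous.image_connectedComponent_subset t) ?_
  intro y hy
  refine ⟨Curv2.galAct k X K σ⁻¹ y, ?_, galAct_apply_inv k X K σ y⟩
  have h := (Curv2.galAct k X K σ⁻¹).continuous.image_connectedComponent_subset _ ⟨y, hy, rfl⟩
  rwa [galAct_inv_apply] at h

section Galois

variable [IsGalois k K]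

/-- An invariant connected component is the full preimage of a component of `X`. -/
theorem preimage_connectedComponent_of_invariant (t : Curv2.bc k X K)
    (hinv : ∀ σ : K ≃ₐ[k] K, Curv2.galAct k X K σ '' connectedComponent t = connectedComponent t) :
    Curv2.bcFst k X K ⁻¹' connectedComponent (Curv2.bcFst k X K t) = connectedComponent t := by
  refine subset_antisymm (fun y hy => ?_)
    (Set.image_subset_iff.mp ((Curv2.bcFst k X K).continuous.image_connectedComponent_subset t))
  obtain ⟨q, hq, hqy⟩ := surjOn_connectedComponent_galois k X K t _ hy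
  obtain ⟨σ, rfl⟩ := exists_galAct_eq k X K q y hqy
  exact hinv σ ▸ ⟨q, hq, rfl⟩

theorem preimage_irreducibleComponent_of_invariant (Z : Set (Curv2.bc k X K))
    (hinv : ∀ σ : K ≃ₐ[k] K, Curv2.galAct k X K σ '' Z = Z) :
    Curv2.bcFst k X K ⁻¹' (Curv2.bcFst k X K '' Z) = Z :=
  preimage_image_of_invariant k X K Z hinv

theorem exists_galAct_image_eq (Z' Z'' : Set (Curv2.bc k X K))
    (hZ' : Z' ∈ irreducibleComponents (Curv2.bc k X K))
    (hZ'' : Z'' ∈ irreducibleComponents (Curv2.bc k X K))
    (h : Curv2.bcFst k X K '' Z' = Curv2.bcFst k X K '' Z'') :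
    ∃ σ : K ≃ₐ[k] K, Curv2.galAct k X K σ '' Z' = Z'' := by
  have g' := hZ'.1.isGenericPoint_genericPoint (isClosed_of_mem_irreducibleComponents Z' hZ')
  have g'' := hZ''.1.isGenericPoint_genericPoint (isClosed_of_mem_irreducibleComponents Z'' hZ'')
  have e' := g'.image (Curv2.bcFst k X K).continuous
  have e'' := g''.image (Curv2.bcFst k X K).continuous
  rw [h] at e'
  obtain ⟨σ, hσ⟩ := exists_galAct_eq k X K _ _ (e'.eq e'')
  refine ⟨σ, ?_⟩
  rw [← g'.def, ← g''.def, ← hσ]
  exact ((galHomeo k X K σ).image_closure {hZ'.1.genericPoint}).trans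
    (congrArg closure Set.image_singleton)

end Galois

section Irreducible

variable {k X} (K : Type u) [Field K] [Algebra k K]

/-- The preimage of an irreducible component is the union of the components lying over it. -/
theorem preimage_irreducibleComponent_eq_sUnion (T : Set X) (hT : T ∈ irreducibleComponents X) :
    Curv2.bcFst k X K ⁻¹' T = ⋃₀ {Z : Set (Curv2.bc k X K) |
      Z ∈ irreducibleComponents (Curv2.bc k X K) ∧ Curv2.bcFst k X K '' Z ⊆ T} := by
  refine subset_antisymm (fun y hy => ?_) ?_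
  · haveI : Flat (Curv2.bcFst k X K) := by
      haveI : Flat (Spec.map (CommRingCat.ofHom (algebraMap k K))) :=
        Flat.SpecMap_iff.mpr (RingHom.flat_algebraMap_iff.mpr inferInstance)
      infer_instance
    have g := hT.1.isGenericPoint_genericPoint (isClosed_of_mem_irreducibleComponents T hT)
    obtain ⟨w, hw, hwη⟩ := Flat.generalizingMap (Curv2.bcFst k X K) (g.specializes hy)
    obtain ⟨Z, hZ, hwZ⟩ :=
      exists_mem_irreducibleComponents_subset_of_isIrreducible {w} isIrreducible_singleton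
    have hZc := isClosed_of_mem_irreducibleComponents Z hZ
    have hT' : Curv2.bcFst k X K '' Z = T := by
      have h1 := image_irreducibleComponent k X K Z hZ
      have h2 : T ⊆ Curv2.bcFst k X K '' Z := by
        rw [← g.def]
        exact closure_minimal (Set.singleton_subset_iff.mpr ⟨w, hwZ rfl, hwη⟩)
          (isClosed_of_mem_irreducibleComponents _ h1)
      exact subset_antisymm (hT.2 h1.1 h2) h2
    exact ⟨Z, ⟨hZ, hT'.le⟩, hw.mem_closed hZc (hwZ rfl)⟩
  · rintro y ⟨Z, ⟨-, hZ⟩, hyZ⟩
    exact hZ ⟨y, hyZ, rfl⟩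

theorem image_eq_of_subset (T : Set X) (hT : T ∈ irreducibleComponents X) (Z : Set (Curv2.bc k X K))
    (hZ : Z ∈ irreducibleComponents (Curv2.bc k X K)) (hZT : Curv2.bcFst k X K '' Z ⊆ T) :
    Curv2.bcFst k X K '' Z = T :=
  subset_antisymm hZT ((image_irreducibleComponent k X K Z hZ).2 hT.1 hZT)

/-- Only finitely many components lie over one component, for `X` locally of finite type. -/
theorem finite_components_over [Algebra.IsAlgebraic k K]
    [LocallyOfFiniteType (X ↘ Spec (CommRingCat.of k))] (T : Set X)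
    (hT : T ∈ irreducibleComponents X) :
    {Z : Set (Curv2.bc k X K) | Z ∈ irreducibleComponents (Curv2.bc k X K) ∧
      Curv2.bcFst k X K '' Z ⊆ T}.Finite := by
  obtain ⟨η, hη⟩ := hT.1.1
  obtain ⟨U, hU, hηU, -⟩ := X.isBasis_affineOpens.exists_subset_of_mem_open
    (Set.mem_univ η) isOpen_univ
  obtain ⟨U, (hU' : IsAffineOpen U), rfl⟩ := hU
  haveI := isIntegralHom_bcFst k X K
  let W : (Curv2.bc k X K).Opens := Curv2.bcFst k X K ⁻¹ᵁ U
  have hW : IsAffineOpen W := hU'.preimage (Curv2.bcFst k X K)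
  haveI : IsLocallyNoetherian (Curv2.bc k X K) :=
    LocallyOfFiniteType.isLocallyNoetherian (Curv2.bcSnd k X K)
  haveI : IsNoetherianRing Γ(Curv2.bc k X K, W) :=
    IsLocallyNoetherian.component_noetherian ⟨W, hW⟩
  haveI : TopologicalSpace.NoetherianSpace (W : Set (Curv2.bc k X K)) :=
    noetherianSpace_of_isAffineOpen W hW
  have hmeet : ∀ Z ∈ irreducibleComponents (Curv2.bc k X K), Curv2.bcFst k X K '' Z ⊆ T →
      (Z ∩ Set.range (Subtype.val : ↥(W : Set (Curv2.bc k X K)) → _)).Nonempty := by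
    intro Z hZ hZT
    rw [← image_eq_of_subset K T hT Z hZ hZT] at hη
    obtain ⟨w, hw, rfl⟩ := hη
    exact ⟨w, hw, ⟨w, hηU⟩, rfl⟩
  refine Set.Finite.of_finite_image
    (f := fun Z => (Subtype.val : ↥(W : Set (Curv2.bc k X K)) → _) ⁻¹' Z) ?_ ?_
  · refine (TopologicalSpace.NoetherianSpace.finite_irreducibleComponents).subset ?_
    rintro _ ⟨Z, ⟨hZ, hZT⟩, rfl⟩
    exact preimage_mem_irreducibleComponents hZ W.isOpen.isOpenEmbedding_subtypeVal (hmeet Z hZ hZT)
  · intro Z hZ Z' hZ' he
    have key : ∀ Z ∈ irreducibleComponents (Curv2.bc k X K), Curv2.bcFst k X K '' Z ⊆ T →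
        closure (Subtype.val '' ((Subtype.val : ↥(W : Set (Curv2.bc k X K)) → _) ⁻¹' Z)) = Z := by
      intro Z hZ hZT
      obtain ⟨w, hw, v, rfl⟩ := hmeet Z hZ hZT
      exact closure_image_preimage_of_isPreirreducible _ W.isOpen.isOpenMap_subtype_val Z ⟨v, hw⟩
        hZ.1.2 (isClosed_of_mem_irreducibleComponents Z hZ)
    rw [← key Z hZ.1 hZ.2, ← key Z' hZ'.1 hZ'.2]
    exact congrArg (fun s => closure (Subtype.val '' s)) he

end Irreducible

end Groth.Agent.Lib.GeomConn.GaloisComponents
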