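import Groth.Agent.Lib.GeomConn.Geometric
import Groth.Agent.Lib.GeomConn.GaloisComponents
import Groth.Agent.Lib.GeomConn.Residue
import Groth.Agent.H52.FBase.PrimaryGeom
import Mathlib.FieldTheory.Galois.Infinite

/-! Geometric irreducibility and the residue field of the generic point. -/

set_option autoImplicit false
universe u
open CategoryTheory CategoryTheory.Limits AlgebraicGeometry
attribute [local instance] Curv2.resAlgebra

namespace Groth.Agent.Lib.GeomConn.GenericFibre

variable (k : Type u) [Field k] (X : Scheme.{u}) [X.Over (Spec (CommRingCat.of k))]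
  (K : Type u) [Field K] [Algebra k K]

/-- `Spec (κ(x) ⊗ K)` mapped onto the fibre of `X_K → X` over `x`. -/
noncomputable def fibreMap (x : X) :
    pullback (Spec.map (CommRingCat.ofHom (algebraMap k (X.residueField x))))
      (Spec.map (CommRingCat.ofHom (algebraMap k K))) ⟶ Curv2.bc k X K :=
  pullback.map _ _ _ _ (X.fromSpecResidueField x) (𝟙 _) (𝟙 _)
    (by rw [Category.comp_id]; exact Residue.specMap_resMap k X x) (by simp)

theorem range_fibreMap (x : X) :
    Set.range (fibreMap k X K x) = Curv2.bcFst k X K ⁻¹' {x} := by
  rw [fibreMap, Scheme.Pullback.range_map, Scheme.range_fromSpecResidueField]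
  simp

theorem isPreimmersion_fibreMap (x : X) : IsPreimmersion (fibreMap k X K x) := by
  let i := pullback.congrHom (show Spec.map (CommRingCat.ofHom (algebraMap k (X.residueField x))) =
        _ from Residue.specMap_resMap k X x)
      (rfl : Spec.map (CommRingCat.ofHom (algebraMap k K)) = _) ≪≫
    (pullbackRightPullbackFstIso (X ↘ Spec (CommRingCat.of k))
      (Spec.map (CommRingCat.ofHom (algebraMap k K))) (X.fromSpecResidueField x)).symm
  have h : fibreMap k X K x = i.hom ≫ pullback.snd _ _ := by
    apply pullback.hom_ext
    · simp [fibreMap, i, pullback.condition]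
      erw [pullback.lift_fst, pullback.lift_fst_assoc]
      simp
    · simp [fibreMap, i]
      erw [pullback.lift_snd, pullback.lift_snd]
  rw [h]
  infer_instance

theorem injective_fibreMap (x : X) : Function.Injective (fibreMap k X K x) :=
  have := isPreimmersion_fibreMap k X K x
  (fibreMap k X K x).isEmbedding.injective

/-- An embedded subspace containing the generic point of an irreducible space is irreducible. -/
theorem irreducibleSpace_of_isInducing {A B : Type u} [TopologicalSpace A] [TopologicalSpace B]
    [QuasiSober B] [IrreducibleSpace B] {e : A → B} (he : Topology.IsInducing e)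
    (h : genericPoint B ∈ Set.range e) : IrreducibleSpace A := by
  obtain ⟨a, ha⟩ := h
  have : (Set.univ : Set A) = closure {a} := (Set.eq_univ_of_forall fun b =>
    specializes_iff_mem_closure.1
      (he.specializes_iff.1 (ha ▸ genericPoint_specializes (e b)))).symm
  exact irreducibleSpace_def _ |>.mpr (Set.top_eq_univ ▸ this ▸ isIrreducible_singleton.closure)

theorem irreducibleSpace_bc_of_separableClosure_eq_bot [IrreducibleSpace X]
    (h : separableClosure k (X.residueField (genericPoint X)) = ⊥) :
    IrreducibleSpace (Curv2.bc k X K) := by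
  have := Groth.Agent.H52.FBase.PrimaryGeom.irreducibleSpace_bc_spec
    (k := k) (X.residueField (genericPoint X)) h K
  have hd : Dense (Curv2.bcFst k X K ⁻¹' ({genericPoint X} : Set X)) := by
    refine Dense.preimage ?_ (Galois.isOpenMap_bcFst k X K)
    rw [dense_iff_closure_eq, genericPoint_closure]
  rw [← range_fibreMap] at hd
  exact irreducibleSpace_def _ |>.mpr (by
    rw [Set.top_eq_univ, ← hd.closure_eq, ← Set.image_univ]
    exact ((@IrreducibleSpace.isIrreducible_univ _ _ this).image _
      (fibreMap k X K (genericPoint X)).continuous.continuousOn).closure)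

theorem mem_range_of_isSeparable [IrreducibleSpace X]
    [IrreducibleSpace (Curv2.bc k X (SeparableClosure k))]
    (a : X.residueField (genericPoint X)) (ha : IsSeparable k a) :
    a ∈ Set.range (algebraMap k (X.residueField (genericPoint X))) := by
  let L := SeparableClosure k
  let κ := X.residueField (genericPoint X)
  let Ω := AlgebraicClosure κ
  let ι : κ →ₐ[k] Ω := IsScalarTower.toAlgHom k κ Ω
  let e : L →ₐ[k] Ω := Geometric.sepEmb k κ
  have hsub : Subsingleton ↥(pullback (Spec.map (CommRingCat.ofHom (algebraMap k κ)))
      (Spec.map (CommRingCat.ofHom (algebraMap k L)))) := by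
    refine ⟨fun p q => injective_fibreMap k X L _ ?_⟩
    suffices ∀ y : Curv2.bc k X L, Curv2.bcFst k X L y = genericPoint X →
        y = genericPoint (Curv2.bc k X L) by
      rw [this _ (Set.ext_iff.1 (range_fibreMap k X L _) _ |>.1 ⟨p, rfl⟩),
        this _ (Set.ext_iff.1 (range_fibreMap k X L _) _ |>.1 ⟨q, rfl⟩)]
    intro y hy
    have hη : Curv2.bcFst k X L (genericPoint (Curv2.bc k X L)) = genericPoint X := by
      refine ((genericPoint_specializes _).antisymm ?_).eq.symm
      rw [← hy]
      exact (genericPoint_specializes y).map (Curv2.bcFst k X L).continuous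
    obtain ⟨σ, hσ⟩ := (Galois.isOrbitMap k X L).exists_smul _ y (hη.trans hy.symm)
    rw [← hσ]
    exact ((genericPoint_specializes _).antisymm
      (by
        have h1 := (genericPoint_specializes (σ⁻¹ • genericPoint (Curv2.bc k X L))).map
          (continuous_const_smul σ)
        rwa [smul_inv_smul] at h1)).eq.symm
  -- hence all compatible pairs of embeddings have the same kernel
  haveI : Subsingleton (PrimeSpectrum (TensorProduct k κ L)) :=
    (pullbackSpecIso k κ L).inv.homeomorph.injective.subsingleton
  have hker : ∀ σ : L ≃ₐ[k] L,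
      RingHom.ker (Algebra.TensorProduct.lift ι (e.comp σ.toAlgHom) fun _ _ => .all _ _).toRingHom =
      RingHom.ker (Algebra.TensorProduct.lift ι e fun _ _ => .all _ _).toRingHom := fun σ =>
    congrArg PrimeSpectrum.asIdeal (Subsingleton.elim
      (⟨_, RingHom.ker_isPrime _⟩ : PrimeSpectrum (TensorProduct k κ L)) ⟨_, RingHom.ker_isPrime _⟩)
  obtain ⟨b, hb, hba⟩ : ι a ∈ e '' (minpoly k a).rootSet L := by
    rw [(IsSepClosed.splits_codomain (minpoly k a) ha).image_rootSet e]
    exact Polynomial.mem_rootSet.2 ⟨minpoly.ne_zero ha.isIntegral, by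
      rw [Polynomial.aeval_algHom_apply, minpoly.aeval, map_zero]⟩
  have hfix : ∀ σ : L ≃ₐ[k] L, σ b = b := by
    intro σ
    have h0 : a ⊗ₜ[k] (1 : L) - (1 : κ) ⊗ₜ[k] b ∈
        RingHom.ker (Algebra.TensorProduct.lift ι e fun _ _ => .all _ _).toRingHom := by
      simp [RingHom.mem_ker, hba]
    rw [← hker σ] at h0
    simp only [RingHom.mem_ker, map_sub, AlgHom.toRingHom_eq_coe, RingHom.coe_coe,
      Algebra.TensorProduct.lift_tmul, map_one, mul_one, one_mul, sub_eq_zero] at h0
    rw [← hba] at h0
    exact (e.injective h0).symm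
  obtain ⟨c, rfl⟩ := (InfiniteGalois.mem_range_algebraMap_iff_fixed b).2 hfix
  refine ⟨c, RingHom.injective ι.toRingHom ?_⟩
  exact (ι.commutes c).trans ((e.commutes c).symm.trans hba)

end Groth.Agent.Lib.GeomConn.GenericFibre
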