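import Groth.Agent.Lib.GeomConn.GenericFibre
import Mathlib.Algebra.Polynomial.Identities
import Mathlib.RingTheory.Nilpotent.Lemmas

/-! A scheme whose self-product is irreducible is geometrically irreducible. -/

set_option autoImplicit false
universe u
open CategoryTheory CategoryTheory.Limits AlgebraicGeometry TensorProduct
attribute [local instance] Curv2.resAlgebra

namespace Groth.Agent.Lib.GeomConn.SelfProduct

theorem mem_range_of_irreducibleSpace_tensor (k F : Type u) [Field k] [Field F] [Algebra k F]
    [IrreducibleSpace (PrimeSpectrum (F ⊗[k] F))] (a : F) (ha : IsSeparable k a) :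
    a ∈ Set.range (algebraMap k F) := by
  set x : F ⊗[k] F := 1 ⊗ₜ a with hx
  set d : F ⊗[k] F := a ⊗ₜ 1 - 1 ⊗ₜ a with hd
  set p := (minpoly k a).map (algebraMap k (F ⊗[k] F)) with hp
  have hpx : p.eval x = 0 := by
    rw [hp, Polynomial.eval_map, ← Polynomial.aeval_def,
      show x = (Algebra.TensorProduct.includeRight : F →ₐ[k] F ⊗[k] F) a from rfl,
      Polynomial.aeval_algHom_apply, minpoly.aeval, map_zero]
  have hpy : p.eval (x + d) = 0 := by
    rw [hp, hd, add_sub_cancel, Polynomial.eval_map, ← Polynomial.aeval_def,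
      show a ⊗ₜ[k] (1 : F) = (Algebra.TensorProduct.includeLeft : F →ₐ[k] F ⊗[k] F) a from rfl,
      Polynomial.aeval_algHom_apply, minpoly.aeval, map_zero]
  obtain ⟨c, hc⟩ := Polynomial.binomExpansion p x d
  rw [hpx, hpy, zero_add] at hc
  have hu : IsUnit (p.derivative.eval x) := by
    rw [hp, Polynomial.derivative_map, Polynomial.eval_map, ← Polynomial.aeval_def,
      show x = (Algebra.TensorProduct.includeRight : F →ₐ[k] F ⊗[k] F) a from rfl,
      Polynomial.aeval_algHom_apply]
    exact (isUnit_iff_ne_zero.2 (ha.aeval_derivative_ne_zero (minpoly.aeval k a))).map _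
  let μ := Algebra.TensorProduct.lmul' (S := F) k
  have hμd : μ d = 0 := by simp [μ, hd]
  have hdn : IsNilpotent d := by
    have hP : (nilradical (F ⊗[k] F)).IsPrime :=
      (PrimeSpectrum.irreducibleSpace_iff_isPrime_nilradical).1 ‹_›
    have h0 : d * (p.derivative.eval x + c * d) ∈ nilradical (F ⊗[k] F) := by
      rw [show d * (p.derivative.eval x + c * d) = p.derivative.eval x * d + c * d ^ 2 by ring, ← hc]
      exact zero_mem _
    refine (hP.mem_or_mem h0).resolve_right fun h => ?_
    have := (IsNilpotent.map (mem_nilradical.1 h) μ).eq_zero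
    rw [map_add, map_mul, hμd, mul_zero, add_zero] at this
    exact (hu.map μ).ne_zero this
  have hd0 : d = 0 := by
    have h2 : IsUnit (p.derivative.eval x + c * d) :=
      (mem_nilradical.1 (Ideal.mul_mem_left _ c (mem_nilradical.2 hdn))).isUnit_add_left_of_commute
        hu (Commute.all _ _)
    exact h2.mul_left_eq_zero.1 (by rw [hc]; ring)
  obtain ⟨ψ, hψ⟩ := (Algebra.linearMap k F).exists_leftInverse_of_injective
    (LinearMap.ker_eq_bot.2 (RingHom.injective (algebraMap k F)))
  have h1 : ψ 1 = 1 := by simpa using LinearMap.congr_fun hψ 1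
  have h3 := congrArg ((TensorProduct.rid k F).toLinearMap ∘ₗ ψ.lTensor F) hd0
  simp [hd, h1, sub_eq_zero] at h3
  exact ⟨ψ a, by rw [Algebra.algebraMap_eq_smul_one]; exact h3.symm⟩

variable (k : Type u) [Field k] (X : Scheme.{u}) [X.Over (Spec (CommRingCat.of k))]

theorem irreducibleSpace_tensor_of_self [IrreducibleSpace X]
    [IrreducibleSpace ↥(pullback (X ↘ Spec (CommRingCat.of k)) (X ↘ Spec (CommRingCat.of k)))] :
    IrreducibleSpace (PrimeSpectrum
      (X.residueField (genericPoint X) ⊗[k] X.residueField (genericPoint X))) := by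
  let f := X ↘ Spec (CommRingCat.of k)
  let ξ := genericPoint X
  let κ := X.residueField ξ
  have hgen : ∀ {Y : Scheme.{u}} (π : Y ⟶ X) [IrreducibleSpace Y] [Surjective π],
      π (genericPoint Y) = ξ := by
    intro Y π _ _
    obtain ⟨y, hy⟩ := π.surjective ξ
    refine ((genericPoint_specializes _).antisymm ?_).eq.symm
    show π (genericPoint Y) ⤳ ξ
    rw [← hy]
    exact (genericPoint_specializes y).map π.continuous
  haveI : Surjective f := ⟨fun z => ⟨ξ, @Subsingleton.elim (PrimeSpectrum k) _ _ _⟩⟩
  haveI : IrreducibleSpace (Curv2.bc k X κ) := by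
    let m : Curv2.bc k X κ ⟶ pullback f f :=
      pullback.map _ _ _ _ (𝟙 _) (X.fromSpecResidueField ξ) (𝟙 _) (by simp [f])
        (by rw [Category.comp_id]; exact Residue.specMap_resMap k X ξ)
    let i := pullback.congrHom (rfl : f = _) (show Spec.map (CommRingCat.ofHom (algebraMap k κ)) =
        _ from Residue.specMap_resMap k X ξ) ≪≫
      (pullbackLeftPullbackSndIso f f (X.fromSpecResidueField ξ)).symm
    have hm : m = i.hom ≫ pullback.fst _ _ := by
      apply pullback.hom_ext
      · simp [m, i]
        erw [pullback.lift_fst, pullback.lift_fst]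
      · simp [m, i, pullback.condition]
        erw [pullback.lift_snd, pullback.lift_snd_assoc]
        rfl
    have : IsPreimmersion m := hm ▸ inferInstance
    refine GenericFibre.irreducibleSpace_of_isInducing m.isEmbedding.isInducing ?_
    rw [Scheme.Pullback.range_map, Scheme.range_fromSpecResidueField]
    simp [hgen (pullback.snd f f)]
  haveI := GenericFibre.isPreimmersion_fibreMap k X κ ξ
  have : IrreducibleSpace ↥(pullback (Spec.map (CommRingCat.ofHom (algebraMap k κ)))
      (Spec.map (CommRingCat.ofHom (algebraMap k κ)))) := by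
    refine GenericFibre.irreducibleSpace_of_isInducing
      (GenericFibre.fibreMap k X κ ξ).isEmbedding.isInducing ?_
    rw [GenericFibre.range_fibreMap]
    exact hgen (Curv2.bcFst k X κ)
  exact (pullbackSpecIso k κ κ).hom.homeomorph.irreducibleSpace_iff.mp this

end Groth.Agent.Lib.GeomConn.SelfProduct
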